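import Mathlib
import Cfsg.Agent.Lib.PrimeGraphModule

/-!
Split extensions of a finite group by copies of a module in characteristic `p`, and criteria for the
element orders to be the divisors of a given list of numbers.
-/

set_option autoImplicit false

namespace CfsgLib.SpecSp4

open Finset

theorem range_eq_of {G : Type*} [Group G] [Finite G] (E : List ℕ)
    (hup : ∀ g : G, ∃ e ∈ E, g ^ e = 1) (hlow : ∀ e ∈ E, ∃ g : G, e ∣ orderOf g) :
    Set.range (orderOf : G → ℕ) = {n | ∃ e ∈ E, n ∣ e} := by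
  ext n
  constructor
  · rintro ⟨g, rfl⟩
    obtain ⟨e, he, h⟩ := hup g
    exact ⟨e, he, orderOf_dvd_of_pow_eq_one h⟩
  · rintro ⟨e, he, hn⟩
    obtain ⟨g, hg⟩ := hlow e he
    exact ⟨g ^ (orderOf g / n), orderOf_pow_orderOf_div (orderOf_pos g).ne' (hn.trans hg)⟩

variable (L V : Type*) [Group L] [AddCommGroup V] [DistribMulAction L V] (k : ℕ)

def actFun (g : L) : MulAut (Multiplicative (Fin k → V)) :=
  AddEquiv.toMultiplicative
    { toFun := fun w i => g • w i
      invFun := fun w i => g⁻¹ • w i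
      left_inv := fun w => funext fun i => inv_smul_smul g _
      right_inv := fun w => funext fun i => smul_inv_smul g _
      map_add' := fun u v => funext fun i => smul_add g _ _ }

theorem actFun_apply (g : L) (w : Multiplicative (Fin k → V)) (i : Fin k) :
    Multiplicative.toAdd (actFun L V k g w) i = g • Multiplicative.toAdd w i := rfl

def act : L →* MulAut (Multiplicative (Fin k → V)) where
  toFun := actFun L V k
  map_one' := MulEquiv.ext fun w => Multiplicative.toAdd.injective (funext fun i => by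
    rw [actFun_apply]; exact one_smul L _)
  map_mul' g h := MulEquiv.ext fun w => Multiplicative.toAdd.injective (funext fun i => by
    rw [MulAut.mul_apply, actFun_apply, actFun_apply, actFun_apply, mul_smul])

abbrev Ext : Type _ := SemidirectProduct (Multiplicative (Fin k → V)) L (act L V k)

variable {L V} {k}

/-- `1 + g + ⋯ + g^(n-1)` applied to a vector. -/
def gsum (g : L) (n : ℕ) (v : V) : V := ∑ i ∈ range n, g ^ i • v

theorem left_mul (x y : Ext L V k) (i : Fin k) :
    Multiplicative.toAdd (x * y).left i =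
      Multiplicative.toAdd x.left i + x.right • Multiplicative.toAdd y.left i := rfl

theorem right_pow (x : Ext L V k) (n : ℕ) : (x ^ n).right = x.right ^ n :=
  map_pow SemidirectProduct.rightHom x n

theorem left_pow (x : Ext L V k) (n : ℕ) (i : Fin k) :
    Multiplicative.toAdd (x ^ n).left i = gsum x.right n (Multiplicative.toAdd x.left i) := by
  induction n with
  | zero => simp [gsum]
  | succ n ih => rw [pow_succ, left_mul, ih, right_pow, gsum, gsum, sum_range_succ]

theorem pow_eq_one_iff_gsum (x : Ext L V k) (n : ℕ) :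
    x ^ n = 1 ↔ x.right ^ n = 1 ∧ ∀ i, gsum x.right n (Multiplicative.toAdd x.left i) = 0 := by
  constructor
  · intro h
    exact ⟨by rw [← right_pow, h]; rfl, fun i => by rw [← left_pow, h]; rfl⟩
  · rintro ⟨h1, h2⟩
    refine SemidirectProduct.ext (Multiplicative.toAdd.injective (funext fun i => ?_)) ?_
    · rw [left_pow, h2 i]; rfl
    · rw [right_pow, h1]; rfl

theorem gsum_add_mul (g : L) {n : ℕ} (hn : g ^ n = 1) (m : ℕ) (v : V) :
    gsum g (m * n) v = m • gsum g n v := by
  induction m with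
  | zero => simp [gsum]
  | succ m ih =>
    rw [Nat.succ_mul, gsum, sum_range_add, ← gsum, ih, succ_nsmul]
    congr 1
    refine sum_congr rfl fun i _ => ?_
    rw [pow_add, mul_comm m n, pow_mul, hn, one_pow, one_mul]

/-- A number `e` is fine for `g` when `g^e = 1` and `1 + g + ⋯ + g^(e-1)` vanishes on the module. -/
def Fine (V : Type*) [AddCommGroup V] [DistribMulAction L V] (g : L) (e : ℕ) : Prop :=
  g ^ e = 1 ∧ ∀ v : V, gsum g e v = 0

theorem fine_of_fpf {g : L} {e : ℕ} (he : g ^ e = 1) (hfix : ∀ v : V, g • v = v → v = 0) :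
    Fine V g e := by
  refine ⟨he, fun v => hfix _ ?_⟩
  cases e with
  | zero => simp [gsum]
  | succ e =>
    rw [gsum, Finset.smul_sum]
    conv_rhs => rw [sum_range_succ', pow_zero, one_smul]
    rw [sum_range_succ, ← mul_smul, ← pow_succ', he, one_smul]
    exact congrArg (· + v) (sum_congr rfl fun i _ => by rw [← mul_smul, ← pow_succ'])

theorem fine_of_dvd {g : L} {n e : ℕ} (h : Fine V g n) (hd : n ∣ e) : Fine V g e := by
  obtain ⟨c, rfl⟩ := hd
  exact ⟨by rw [pow_mul, h.1, one_pow], fun v => by rw [mul_comm, gsum_add_mul g h.1, h.2, smul_zero]⟩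

theorem fine_mul_char {p : ℕ} (hV : ∀ v : V, p • v = 0) {g : L} {n : ℕ} (hn : g ^ n = 1) :
    Fine V g (p * n) :=
  ⟨by rw [mul_comm, pow_mul, hn, one_pow], fun v => by rw [gsum_add_mul g hn, hV]⟩

theorem gsum_of_fixed {g : L} {v : V} (h : g • v = v) (n : ℕ) : gsum g n v = n • v := by
  have hi : ∀ i : ℕ, g ^ i • v = v := fun i => by
    induction i with
    | zero => simp
    | succ i ih => rw [pow_succ, mul_smul, h, ih]
  simp [gsum, hi]

/-- A fixed vector and an element of order prime to `p` give an element of order `p * o`. -/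
theorem gsum_ne_of_fixed {p : ℕ} [hp : Fact p.Prime] (hV : ∀ v : V, p • v = 0) {g : L} {v : V} (hv : v ≠ 0)
    (h : g • v = v) {n : ℕ} (hn : ¬ p ∣ n) : gsum g n v ≠ 0 := by
  rw [gsum_of_fixed h]
  intro h0
  have h1 : addOrderOf v ∣ p := addOrderOf_dvd_of_nsmul_eq_zero (hV v)
  rcases (Nat.dvd_prime hp.out).mp h1 with h2 | h2
  · exact hv (AddMonoid.addOrderOf_eq_one_iff.mp h2)
  · exact hn (h2 ▸ addOrderOf_dvd_of_nsmul_eq_zero h0)

/-- A witness for the number `e`. -/
def Wit (L V : Type*) [Group L] [AddCommGroup V] [DistribMulAction L V] (p e : ℕ) : Prop :=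
  (∃ g : L, e ∣ orderOf g) ∨ ∃ (g : L) (v : V), gsum g (orderOf g) v ≠ 0 ∧ e ∣ p * orderOf g

theorem exists_orderOf_ext {p : ℕ} [hp : Fact p.Prime] (hV : ∀ v : V, p • v = 0) (hk : 0 < k) {g : L}
    (hg : IsOfFinOrder g) {v : V} (hv : gsum g (orderOf g) v ≠ 0) :
    ∃ x : Ext L V k, orderOf x = p * orderOf g := by
  set o := orderOf g with ho
  let x : Ext L V k := ⟨Multiplicative.ofAdd (fun _ => v), g⟩
  refine ⟨x, ?_⟩
  have h1 : ¬ orderOf x ∣ o := fun h => by
    have := ((pow_eq_one_iff_gsum x o).mp (orderOf_dvd_iff_pow_eq_one.mp h)).2 ⟨0, hk⟩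
    exact hv this
  have h2 : orderOf x ∣ p * o := orderOf_dvd_of_pow_eq_one ((pow_eq_one_iff_gsum x _).mpr
    ⟨(fine_mul_char hV (pow_orderOf_eq_one g)).1, fun i => (fine_mul_char hV (pow_orderOf_eq_one g)).2 _⟩)
  obtain ⟨c, hc⟩ : o ∣ orderOf x := by
    rw [ho]
    exact orderOf_map_dvd (SemidirectProduct.rightHom : Ext L V k →* L) x
  have hopos : 0 < o := hg.orderOf_pos
  have hcp : c ∣ p := by
    rw [hc, mul_comm p o] at h2
    exact Nat.dvd_of_mul_dvd_mul_left hopos h2
  rcases (Nat.dvd_prime hp.out).mp hcp with rfl | rfl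
  · exact absurd (by rw [hc, mul_one]) h1
  · rw [hc, mul_comm]

/-- The criterion. -/
theorem ext_range [Finite L] [Finite V] {p : ℕ} [Fact p.Prime] (hV : ∀ v : V, p • v = 0) (hk : 0 < k)
    (E : List ℕ) (hup : ∀ g : L, ∃ e ∈ E, Fine V g e) (hlow : ∀ e ∈ E, Wit L V p e) :
    Set.range (orderOf : Ext L V k → ℕ) = {n | ∃ e ∈ E, n ∣ e} := by
  haveI : Finite (Ext L V k) := Finite.of_equiv _ SemidirectProduct.equivProd.symm
  refine range_eq_of E (fun x => ?_) (fun e he => ?_)
  · obtain ⟨e, he, h1, h2⟩ := hup x.right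
    exact ⟨e, he, (pow_eq_one_iff_gsum x e).mpr ⟨h1, fun i => h2 _⟩⟩
  · rcases hlow e he with ⟨g, hg⟩ | ⟨g, v, hv, hd⟩
    · exact ⟨SemidirectProduct.inr g, by rwa [orderOf_injective _ SemidirectProduct.inr_injective]⟩
    · obtain ⟨x, hx⟩ := exists_orderOf_ext (k := k) hV hk (isOfFinOrder_of_finite g) hv
      exact ⟨x, hx ▸ hd⟩

/-- Arbitrarily large groups with the element orders prescribed by the criterion. -/
theorem exists_isospectral [Finite L] [Finite V] [Nontrivial V] {p : ℕ} [Fact p.Prime]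
    (hV : ∀ v : V, p • v = 0) (E : List ℕ) (hup : ∀ g : L, ∃ e ∈ E, Fine V g e)
    (hlow : ∀ e ∈ E, Wit L V p e) (N : ℕ) :
    ∃ (H : Type) (_ : Group H) (_ : Fintype H), N < Fintype.card H ∧
      Set.range (orderOf : H → ℕ) = {n | ∃ e ∈ E, n ∣ e} := by
  haveI : Finite (Ext L V (N + 1)) := Finite.of_equiv _ SemidirectProduct.equivProd.symm
  obtain ⟨H, iG, iF, ⟨e⟩⟩ := CfsgLib.PrimeGraphModule.exists_small (H := Ext L V (N + 1))
  refine ⟨H, iG, iF, ?_, ?_⟩
  · rw [← Nat.card_eq_fintype_card, Nat.card_congr e.toEquiv,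
      Nat.card_congr SemidirectProduct.equivProd, Nat.card_prod]
    have hc : Nat.card (Multiplicative (Fin (N + 1) → V)) = Nat.card V ^ (N + 1) := by
      rw [Nat.card_congr Multiplicative.toAdd, Nat.card_fun, Nat.card_fin]
    rw [hc]
    calc N < 2 ^ (N + 1) := lt_of_lt_of_le (by omega) Nat.lt_two_pow_self.le
      _ ≤ Nat.card V ^ (N + 1) := Nat.pow_le_pow_left Finite.one_lt_card _
      _ ≤ _ := Nat.le_mul_of_pos_right _ Nat.card_pos
  · rw [← ext_range (k := N + 1) hV N.succ_pos E hup hlow]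
    ext n
    exact ⟨fun ⟨g, hg⟩ => ⟨e g, by rw [e.orderOf_eq, hg]⟩, fun ⟨g, hg⟩ => ⟨e.symm g, by rw [e.symm.orderOf_eq, hg]⟩⟩

end CfsgLib.SpecSp4
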