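import Mathlib

import Cfsg.Agent.Lib.SpectrumPowers.SympWitness
import Cfsg.Agent.Lib.PSpGraph.Basic

/-!
Powers of matrices read off from the eigenvalues: the groups `SL₂` and `Sp₄`.
-/

set_option autoImplicit false

namespace CfsgLib.SpecSp4

open Matrix Polynomial

section General

variable {K : Type*} [Field K] {ι : Type*} [Fintype ι] [DecidableEq ι]

/-- If all eigenvalues have the same `M`-th power `c` and multiplicity at most `p^j`. -/
theorem pow_of_roots (p : ℕ) [hp : Fact p.Prime] [CharP K p] {Ω : Type*} [Field Ω] [IsAlgClosed Ω]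
    [DecidableEq Ω] [Algebra K Ω] (A : Matrix ι ι K) {M j : ℕ} (hM : 0 < M) {c : K}
    (h : ∀ t ∈ (A.charpoly.map (algebraMap K Ω)).roots,
      t ^ M = algebraMap K Ω c ∧ (A.charpoly.map (algebraMap K Ω)).roots.count t ≤ p ^ j) :
    A ^ (M * p ^ j) = c ^ p ^ j • (1 : Matrix ι ι K) := by
  haveI : CharP Ω p := charP_of_injective_algebraMap (algebraMap K Ω).injective p
  set χ := A.charpoly.map (algebraMap K Ω) with hχ
  have hmon : χ.Monic := A.charpoly_monic.map _
  have hdvd : χ ∣ ((X ^ (M * p ^ j) - C (c ^ p ^ j) : K[X]).map (algebraMap K Ω)) := by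
    have hpe : (X ^ (M * p ^ j) - C (c ^ p ^ j) : K[X]).map (algebraMap K Ω) =
        (X ^ M - C (algebraMap K Ω c)) ^ p ^ j := by
      rw [Polynomial.map_sub, Polynomial.map_pow, map_X, map_C, sub_pow_char_pow, ← pow_mul, map_pow, C_pow]
    rw [hpe]
    refine (IsAlgClosed.splits χ).dvd_of_roots_le_roots hmon.ne_zero ?_
    rw [Multiset.le_iff_count]
    intro t
    by_cases ht : t ∈ χ.roots
    · refine (h t ht).2.trans ?_
      rw [roots_pow, Multiset.count_nsmul]
      refine Nat.le_mul_of_pos_right _ (Multiset.count_pos.mpr ?_)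
      rw [mem_roots (X_pow_sub_C_ne_zero hM _)]
      simp [(h t ht).1]
    · rw [Multiset.count_eq_zero.mpr ht]; exact Nat.zero_le _
  rw [hχ, map_dvd_map' (algebraMap K Ω)] at hdvd
  obtain ⟨r, hr⟩ := hdvd
  have h' := congrArg (aeval A) hr
  rw [map_mul, Matrix.aeval_self_charpoly, zero_mul, map_sub, map_pow, aeval_X, aeval_C, sub_eq_zero] at h'
  rw [h', Algebra.algebraMap_eq_smul_one]

/-- Sign form. -/
def Sgn (A : Matrix ι ι K) (M : ℕ) : Prop := A ^ M = 1 ∨ A ^ M = -1

end General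

section SL2

variable {K : Type*} [Field K]

theorem charpoly_two (g : SpecialLinearGroup (Fin 2) K) :
    g.1.charpoly = X ^ 2 - C g.1.trace * X + 1 := by
  rw [Matrix.charpoly_fin_two, g.2, C_1]

theorem sq_eq (g : SpecialLinearGroup (Fin 2) K) : g.1 * g.1 = g.1.trace • g.1 - 1 := by
  have h := Matrix.aeval_self_charpoly g.1
  rw [charpoly_two, map_add, map_sub, map_pow, map_mul, aeval_X, aeval_C, map_one,
    Algebra.algebraMap_eq_smul_one, Matrix.smul_mul, Matrix.one_mul, sq] at h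
  rw [eq_sub_iff_add_eq, ← sub_eq_zero, ← h]
  abel

theorem trace_inv_two (g : SpecialLinearGroup (Fin 2) K) : (g⁻¹).1.trace = g.1.trace := by
  show (Matrix.adjugate g.1).trace = g.1.trace
  rw [Matrix.adjugate_fin_two, Matrix.trace_fin_two, Matrix.trace_fin_two]
  simp [add_comm]

/-- An eigenvalue: either the element is unipotent up to sign or two distinct eigenvalues govern it. -/
theorem sl2_eigen (p : ℕ) [Fact p.Prime] [CharP K p] (g : SpecialLinearGroup (Fin 2) K)
    (Ω : Type*) [Field Ω] [IsAlgClosed Ω] [Algebra K Ω] :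
    (∃ ε : K, (ε = 1 ∨ ε = -1) ∧ (g.1 - ε • 1) * (g.1 - ε • 1) = 0) ∨
      ∃ μ : Ω, μ ≠ 0 ∧ μ ^ 2 ≠ 1 ∧ μ + μ⁻¹ = algebraMap K Ω g.1.trace ∧
        ∀ (M : ℕ) (c : K), 0 < M → μ ^ M = algebraMap K Ω c → μ⁻¹ ^ M = algebraMap K Ω c →
          g.1 ^ M = c • (1 : Matrix (Fin 2) (Fin 2) K) := by
  classical
  set ι := algebraMap K Ω with hι
  set τ := g.1.trace with hτ
  obtain ⟨μ, hμ⟩ := IsAlgClosed.exists_root (X ^ 2 - C (ι τ) * X + 1 : Polynomial Ω) (by
    rw [show (X ^ 2 - C (ι τ) * X + 1 : Polynomial Ω).degree = 2 by compute_degree!]; norm_num)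
  simp only [IsRoot, eval_add, eval_sub, eval_pow, eval_X, eval_mul, eval_C, eval_one] at hμ
  have h0 : μ ≠ 0 := by
    rintro rfl
    simp at hμ
  have hsum : μ + μ⁻¹ = ι τ := by
    field_simp
    linear_combination hμ
  by_cases h2 : μ ^ 2 = 1
  · left
    obtain ⟨ε, hε, he⟩ : ∃ ε : K, (ε = 1 ∨ ε = -1) ∧ μ = ι ε := by
      rcases sq_eq_one_iff.mp h2 with h | h
      · exact ⟨1, Or.inl rfl, by rw [h, map_one]⟩
      · exact ⟨-1, Or.inr rfl, by rw [h, map_neg, map_one]⟩
    refine ⟨ε, hε, ?_⟩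
    have hε2 : ε * ε = 1 := by rcases hε with rfl | rfl <;> ring
    have hτε : τ = ε + ε := by
      apply ι.injective
      rw [map_add, ← he, ← hsum]
      congr 1
      exact inv_eq_of_mul_eq_one_right (by rw [← sq, h2])
    simp only [Matrix.sub_mul, Matrix.mul_sub, Matrix.mul_smul, Matrix.smul_mul, Matrix.mul_one,
      Matrix.one_mul, smul_smul, hε2, one_smul]
    rw [sq_eq, ← hτ, hτε, add_smul]
    simp only [smul_sub, smul_smul, hε2, one_smul]
    abel
  · refine Or.inr ⟨μ, h0, h2, hsum, fun M c hM h1 h1' => ?_⟩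
    have hne : μ⁻¹ ≠ μ := fun h => h2 (by rw [sq]; nth_rewrite 2 [← h]; exact mul_inv_cancel₀ h0)
    have hroots : (g.1.charpoly.map ι).roots = {μ, μ⁻¹} := by
      have : g.1.charpoly.map ι = (X - C μ) * (X - C μ⁻¹) := by
        rw [charpoly_two, Polynomial.map_add, Polynomial.map_sub, Polynomial.map_pow, Polynomial.map_mul,
          map_X, map_C, Polynomial.map_one, ← hτ, ← hsum, C_add]
        have : C μ * C μ⁻¹ = (1 : Polynomial Ω) := by rw [← C_mul, mul_inv_cancel₀ h0, C_1]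
        linear_combination -this
      rw [this, roots_mul (mul_ne_zero (X_sub_C_ne_zero _) (X_sub_C_ne_zero _)), roots_X_sub_C, roots_X_sub_C]
      rfl
    have := pow_of_roots p (Ω := Ω) g.1 (j := 0) hM (c := c) (by
      intro t ht
      rw [hroots] at ht ⊢
      refine ⟨?_, ?_⟩
      · rcases Multiset.mem_cons.mp ht with rfl | ht
        · exact h1
        · rw [Multiset.mem_singleton.mp ht]; exact h1'
      · rw [pow_zero]
        exact Multiset.nodup_iff_count_le_one.mp (by simp [hne.symm]) t)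
    simpa using this

theorem unip_pow (p : ℕ) [hp : Fact p.Prime] [CharP K p] {A : Matrix (Fin 2) (Fin 2) K} {ε : K}
    (hε : ε = 1 ∨ ε = -1) (h : (A - ε • 1) * (A - ε • 1) = 0) : Sgn A p := by
  have h1 : (A - ε • 1) ^ p = A ^ p - (ε • 1) ^ p :=
    sub_pow_char_of_commute p (Commute.smul_right (Commute.one_right A) ε)
  rw [show p = 2 + (p - 2) by have := hp.out.two_le; omega, pow_add, sq, h, Matrix.zero_mul] at h1
  rw [← show p = 2 + (p - 2) by have := hp.out.two_le; omega] at h1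
  rw [Sgn, sub_eq_zero.mp h1.symm, _root_.smul_pow, one_pow]
  rcases hε with rfl | rfl
  · simp
  · rcases hp.out.eq_two_or_odd' with rfl | ho
    · exact Or.inl (by simp)
    · exact Or.inr (by rw [ho.neg_one_pow, neg_one_smul])

/-- The halved exponent. -/
def half (p n : ℕ) : ℕ := if p = 2 then n else n / 2

/-- Powers of an element of `SL₂` whose trace lies in the subfield with `Q` elements. -/
theorem sl2_cases (p Q f : ℕ) [hp : Fact p.Prime] [CharP K p] (hQ : Q = p ^ f) (hf : 1 ≤ f)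
    (g : SpecialLinearGroup (Fin 2) K) (hτ : g.1.trace ^ Q = g.1.trace) :
    Sgn g.1 (half p (Q - 1)) ∨ Sgn g.1 (half p (Q + 1)) ∨
      ∃ ε : K, (ε = 1 ∨ ε = -1) ∧ (g.1 - ε • 1) * (g.1 - ε • 1) = 0 := by
  let Ω := AlgebraicClosure K
  haveI : CharP Ω p := charP_of_injective_algebraMap (algebraMap K Ω).injective p
  rcases sl2_eigen p g Ω with h | ⟨μ, h0, h2, hsum, hpow⟩
  · exact Or.inr (Or.inr h)
  have hQ2 : 2 ≤ Q := hQ ▸ le_trans hp.out.two_le (Nat.le_self_pow (by omega) p)
  have hfr : μ ^ Q + (μ ^ Q)⁻¹ = μ + μ⁻¹ := by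
    rw [hsum, ← hτ, map_pow, ← hsum, hQ, add_pow_char_pow, inv_pow]
  have hμQ : μ ^ Q ≠ 0 := pow_ne_zero _ h0
  have key : (μ ^ Q - μ) * (μ ^ Q * μ - 1) = 0 := by
    have e1 : (μ ^ Q)⁻¹ * μ ^ Q = 1 := inv_mul_cancel₀ hμQ
    have e2 : μ⁻¹ * μ = 1 := inv_mul_cancel₀ h0
    linear_combination (μ ^ Q * μ) * hfr - μ * e1 + μ ^ Q * e2
  have main : ∀ N : ℕ, 0 < N → μ ^ N = 1 → (p ≠ 2 → Even N) → Sgn g.1 (half p N) := by
    intro N hN h hev
    rcases eq_or_ne p 2 with hp2 | hp2
    · rw [half, if_pos hp2]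
      left
      rw [hpow N 1 hN (by rw [map_one, h]) (by rw [map_one, inv_pow, h, inv_one]), one_smul]
    · obtain ⟨r, rfl⟩ := hev hp2
      rw [half, if_neg hp2, show (r + r) / 2 = r by omega]
      rw [← two_mul, mul_comm, pow_mul] at h
      rcases sq_eq_one_iff.mp h with h' | h'
      · left
        rw [hpow r 1 (by omega) (by rw [map_one, h']) (by rw [map_one, inv_pow, h', inv_one]), one_smul]
      · right
        rw [hpow r (-1) (by omega) (by rw [map_neg, map_one, h'])
          (by rw [map_neg, map_one, inv_pow, h', inv_neg, inv_one]), neg_smul, one_smul]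
  have hodd : p ≠ 2 → Odd Q := fun h => hQ ▸ (hp.out.odd_of_ne_two h).pow
  rcases mul_eq_zero.mp key with h | h
  · left
    refine main _ (by omega) ?_ (fun h' => Nat.Odd.sub_odd (hodd h') odd_one)
    have e : μ ^ (Q - 1) * μ = 1 * μ := by
      rw [← pow_succ, Nat.sub_add_cancel (by omega), one_mul, sub_eq_zero.mp h]
    exact mul_right_cancel₀ h0 e
  · exact Or.inr (Or.inl (main _ (by omega) (by rw [pow_succ, sub_eq_zero.mp h])
      (fun h' => (hodd h').add_odd odd_one)))

end SL2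

section Sp4

variable {F : Type*} [Field F] [Fintype F]

theorem sp4_roots (p a : ℕ) [Fact p.Prime] [CharP F p] (hF : Fintype.card F = p ^ a)
    (Ω : Type*) [Field Ω] [DecidableEq Ω] [IsAlgClosed Ω] [Algebra F Ω]
    (A : Matrix.symplecticGroup (Fin 2) F) :
    let R := (A.1.charpoly.map (algebraMap F Ω)).roots
    Multiset.card R = 4 ∧ (0 : Ω) ∉ R ∧ (∀ t, R.count (t ^ Fintype.card F) = R.count t) ∧
      (∀ t, R.count t⁻¹ = R.count t) ∧ Function.Injective (fun t : Ω => t ^ Fintype.card F) := by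
  intro R
  haveI : CharP Ω p := charP_of_injective_algebraMap (algebraMap F Ω).injective p
  set ι := algebraMap F Ω with hι
  set q := Fintype.card F with hq
  set fr : Ω →+* Ω := iterateFrobenius Ω p a with hfr
  have hfrx : ∀ x : Ω, fr x = x ^ q := fun x => by rw [hfr, iterateFrobenius_def, hF]
  have hfrι : ∀ x : F, fr (ι x) = ι x := fun x => by rw [hfrx, ← map_pow, hq, FiniteField.pow_card]
  set Ab := A.1.map ι with hAb
  have hR : R = Ab.charpoly.roots := by rw [hAb, Matrix.charpoly_map]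
  have hcard : Multiset.card R = 4 := by
    rw [hR, IsAlgClosed.card_roots_eq_natDegree, Matrix.charpoly_natDegree_eq_dim, Fintype.card_sum,
      Fintype.card_fin]
  have hrotq : R.map fr = R := by
    have h := (IsAlgClosed.splits Ab.charpoly).roots_map fr
    rw [← Matrix.charpoly_map, show Ab.map fr = Ab by ext x y; exact hfrι _] at h
    rw [hR]; exact h.symm
  have hne0 : (0 : Ω) ∉ R := fun h0 => by
    rw [hR, mem_roots (Matrix.charpoly_monic _).ne_zero, IsRoot.def, ← coeff_zero_eq_eval_zero] at h0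
    have hd := Matrix.det_eq_sign_charpoly_coeff Ab
    rw [h0, mul_zero] at hd
    have : A.1.det = 1 := SymplecticGroup.det_eq_one A.2
    rw [hAb, ← RingHom.mapMatrix_apply, ← RingHom.map_det, this, map_one] at hd
    exact one_ne_zero hd
  have hroti : R.map (·⁻¹) = R := by
    rw [← CfsgLib.SpectrumPowers.roots_reverse_prod R hne0, hR,
      ← (IsAlgClosed.splits Ab.charpoly).eq_prod_roots_of_monic (Matrix.charpoly_monic _)]
    congr 1
    ext k
    rw [coeff_reverse, Matrix.charpoly_natDegree_eq_dim, Fintype.card_sum, Fintype.card_fin]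
    rcases le_or_gt k (2 + 2) with hk | hk
    · rw [revAt_le hk, hAb, Matrix.charpoly_map, coeff_map, coeff_map,
        ← CfsgLib.SemisimpleCount.charpoly_sym A hk]
    · rw [show revAt (2 + 2) k = k by
        show (if k ≤ 2 + 2 then 2 + 2 - k else k) = k
        rw [if_neg (by omega)]]
  have hinj : Function.Injective fun t : Ω => t ^ q :=
    fun x y hxy => fr.injective (by rw [hfrx, hfrx]; exact hxy)
  refine ⟨hcard, hne0, fun t => ?_, fun t => ?_, hinj⟩
  · nth_rewrite 1 [← hrotq]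
    rw [← hfrx, Multiset.count_map_eq_count' _ R fr.injective]
  · nth_rewrite 1 [← hroti]
    rw [Multiset.count_map_eq_count' _ R inv_injective]

theorem count_four {Ω : Type*} [DecidableEq Ω] {R : Multiset Ω} (hR : Multiset.card R = 4) {a b c d : Ω}
    (ha : a ∈ R) (hb : b ∈ R) (hc : c ∈ R) (hd : d ∈ R) (hab : a ≠ b) (hac : a ≠ c) (had : a ≠ d)
    (hbc : b ≠ c) (hbd : b ≠ d) (hcd : c ≠ d) :
    ∀ t ∈ R, (t = a ∨ t = b ∨ t = c ∨ t = d) ∧ R.count t ≤ 1 := by
  have hle : ({a, b, c, d} : Multiset Ω) ≤ R := by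
    rw [Multiset.le_iff_subset (by simp [hab, hac, had, hbc, hbd, hcd])]
    intro x hx
    simp only [Multiset.insert_eq_cons, Multiset.mem_cons, Multiset.mem_singleton] at hx
    rcases hx with rfl | rfl | rfl | rfl <;> assumption
  have he : ({a, b, c, d} : Multiset Ω) = R := Multiset.eq_of_le_of_card_le hle (by simp [hR])
  intro t ht
  rw [← he] at ht ⊢
  refine ⟨by simpa using ht, ?_⟩
  exact Multiset.nodup_iff_count_le_one.mp (by simp [hab, hac, had, hbc, hbd, hcd]) t

theorem count_pair {Ω : Type*} [DecidableEq Ω] {R : Multiset Ω} {a b : Ω} (hab : a ≠ b) :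
    R.count a + R.count b ≤ Multiset.card R := by
  have h1 := Multiset.card_le_card (Multiset.filter_le (fun x => x = a ∨ x = b) R)
  have h2 : Multiset.card (R.filter fun x => x = a ∨ x = b) = R.count a + R.count b := by
    induction R using Multiset.induction_on with
    | empty => simp
    | cons x R ih =>
      have ih := ih (Multiset.card_le_card (Multiset.filter_le _ R))
      by_cases h : x = a
      · subst h; simp [hab, hab.symm, ih]; omega
      · by_cases h' : x = b
        · subst h'; simp [Ne.symm h, h, hab, ih]; omega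
        · simp [Ne.symm h, Ne.symm h', h, h', ih]
  omega

/-- The exponents for `PSp₄(q)`. -/
def expo (p q : ℕ) : List ℕ :=
  if p = 2 then [4, 2 * (q - 1), 2 * (q + 1), q ^ 2 - 1, q ^ 2 + 1]
  else if p = 3 then [9, 3 * (q - 1), 3 * (q + 1), (q ^ 2 - 1) / 2, (q ^ 2 + 1) / 2]
  else [p * (q - 1), p * (q + 1), (q ^ 2 - 1) / 2, (q ^ 2 + 1) / 2]

theorem expo_tori (p q : ℕ) : half p (q ^ 2 - 1) ∈ expo p q ∧ half p (q ^ 2 + 1) ∈ expo p q ∧
    p * (q - 1) ∈ expo p q ∧ p * (q + 1) ∈ expo p q := by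
  unfold expo half
  split_ifs with h h' <;> (try subst h) <;> (try subst h') <;> simp

/-- Every element of `Sp₄` has a listed power equal to a sign. -/
theorem sp4_upper (p : ℕ) [hp : Fact p.Prime] [CharP F p] (A : Matrix.symplecticGroup (Fin 2) F) :
    ∃ e ∈ expo p (Fintype.card F), Sgn A.1 e := by
  classical
  let Ω := AlgebraicClosure F
  haveI : CharP Ω p := charP_of_injective_algebraMap (algebraMap F Ω).injective p
  obtain ⟨a, ha, hF⟩ := CfsgLib.PSpGraph.card_eq_pow F p
  obtain ⟨hcard, hne0, hcq, hcinv, hinj⟩ := sp4_roots p a hF Ω A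
  set ι := algebraMap F Ω with hι
  set R := (A.1.charpoly.map ι).roots with hR
  set q := Fintype.card F with hq
  have hq2 : 2 ≤ q := Fintype.one_lt_card
  have hfix : ∀ t ∈ R, t ^ q ∈ R ∧ t⁻¹ ∈ R := fun t ht =>
    ⟨Multiset.one_le_count_iff_mem.mp (by rw [hcq]; exact Multiset.one_le_count_iff_mem.mpr ht),
      Multiset.one_le_count_iff_mem.mp (by rw [hcinv]; exact Multiset.one_le_count_iff_mem.mpr ht)⟩
  have h0 : ∀ t ∈ R, t ≠ 0 := fun t ht h => hne0 (h ▸ ht)
  obtain ⟨hE1, hE2, hE3, hE4⟩ := expo_tori p q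
  -- conclusion from a common power
  have use : ∀ (M j : ℕ) (c : F), 0 < M → (c = 1 ∨ c = -1) →
      (∀ t ∈ R, t ^ M = ι c ∧ R.count t ≤ p ^ j) → Sgn A.1 (M * p ^ j) := by
    intro M j c hM hc h
    rw [Sgn, pow_of_roots p (Ω := Ω) A.1 hM h]
    rcases hc with rfl | rfl
    · exact Or.inl (by simp)
    · rcases neg_one_pow_eq_or F (p ^ j) with h' | h' <;> rw [h'] <;> simp
  have hodd : p ≠ 2 → Odd q := fun h => hF ▸ (hp.out.odd_of_ne_two h).pow
  by_cases hI : ∃ t ∈ R, t ^ q ≠ t ∧ t ^ q ≠ t⁻¹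
  · obtain ⟨t, ht, h1, h2⟩ := hI
    have ht0 := h0 t ht
    have hti : t ≠ t⁻¹ := fun h => by
      have : t ^ 2 = 1 := by rw [sq]; nth_rewrite 2 [h]; exact mul_inv_cancel₀ ht0
      rcases sq_eq_one_iff.mp this with h' | h'
      · exact h1 (by rw [h', one_pow])
      · rcases neg_one_pow_eq_or Ω q with h'' | h''
        · apply h1
          rw [h', h'']
          refine (hinj ?_).symm
          show (-1 : Ω) ^ q = 1 ^ q
          rw [h'', one_pow]
        · exact h1 (by rw [h', h''])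
    have hqi : t ^ q ≠ (t ^ q)⁻¹ := fun h => hti (hinj (by rw [← inv_pow] at h; exact h))
    have h3 : t ≠ (t ^ q)⁻¹ := fun h => h2 (by rw [h, inv_inv, ← h])
    have h4 : t⁻¹ ≠ (t ^ q)⁻¹ := fun h => h1 (inv_injective h).symm
    obtain ⟨htq, hti'⟩ := hfix t ht
    have hall := count_four hcard ht hti' htq (hfix _ htq).2 hti (Ne.symm h1) h3 (Ne.symm h2) h4 hqi
    -- the square of Frobenius
    have hqq : t ^ q ^ 2 = t ∨ t ^ q ^ 2 = t⁻¹ := by
      have hm : t ^ q ^ 2 ∈ R := by rw [sq, pow_mul]; exact (hfix _ htq).1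
      rcases (hall _ hm).1 with h | h | h | h
      · exact Or.inl h
      · exact Or.inr h
      · exact absurd (hinj (by rw [sq, pow_mul] at h; exact h)) h1
      · rw [sq, pow_mul, ← inv_pow] at h
        exact absurd (hinj h) h2
    obtain ⟨N, hN, hNeven, hNmem, htN⟩ : ∃ N, 0 < N ∧ (p ≠ 2 → Even N) ∧ half p N ∈ expo p q ∧ t ^ N = 1 := by
      have hq4 : 4 ≤ q ^ 2 := by nlinarith
      rcases hqq with h | h
      · refine ⟨q ^ 2 - 1, by omega, fun h' => Nat.Odd.sub_odd ((hodd h').pow) odd_one, hE1, ?_⟩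
        have e : t ^ (q ^ 2 - 1) * t = 1 * t := by
          rw [← pow_succ, Nat.sub_add_cancel (by omega), one_mul, h]
        exact mul_right_cancel₀ ht0 e
      · exact ⟨q ^ 2 + 1, by omega, fun h' => ((hodd h').pow).add_odd odd_one, hE2,
          by rw [pow_succ, h, inv_mul_cancel₀ ht0]⟩
    have key : ∀ (M : ℕ) (c : F), (c = 1 ∨ c = -1) → t ^ M = ι c →
        ∀ s ∈ R, s ^ M = ι c ∧ R.count s ≤ p ^ 0 := by
      intro M c hc h s hs
      refine ⟨?_, by rw [pow_zero]; exact (hall s hs).2⟩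
      have hinv : (ι c)⁻¹ = ι c := by rcases hc with rfl | rfl <;> simp [inv_neg]
      have hcqq : (t ^ q) ^ M = ι c := by
        rw [← pow_mul, mul_comm, pow_mul, h, ← map_pow, hq, FiniteField.pow_card]
      rcases (hall s hs).1 with rfl | rfl | rfl | rfl
      · exact h
      · rw [inv_pow, h, hinv]
      · exact hcqq
      · rw [inv_pow, hcqq, hinv]
    refine ⟨_, hNmem, ?_⟩
    rcases eq_or_ne p 2 with hp2 | hp2
    · have := use N 0 1 hN (Or.inl rfl) (key N 1 (Or.inl rfl) (by rw [map_one, htN]))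
      rw [half, if_pos hp2]
      simpa using this
    · obtain ⟨r, rfl⟩ := hNeven hp2
      rw [half, if_neg hp2, show (r + r) / 2 = r by omega]
      rw [← two_mul, mul_comm, pow_mul] at htN
      rcases sq_eq_one_iff.mp htN with h' | h'
      · simpa using use r 0 1 (by omega) (Or.inl rfl) (key r 1 (Or.inl rfl) (by rw [map_one, h']))
      · simpa using use r 0 (-1) (by omega) (Or.inr rfl) (key r (-1) (Or.inr rfl) (by rw [map_neg, map_one, h']))
  push Not at hI
  have hsplit : ∀ t ∈ R, t ^ (q - 1) = 1 ∨ t ^ (q + 1) = 1 := fun t ht => by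
    by_cases h : t ^ q = t
    · left
      have e : t ^ (q - 1) * t = 1 * t := by rw [← pow_succ, Nat.sub_add_cancel (by omega), one_mul, h]
      exact mul_right_cancel₀ (h0 t ht) e
    · exact Or.inr (by rw [pow_succ, hI t ht h, inv_mul_cancel₀ (h0 t ht)])
  -- bounded multiplicities
  have hmult : (∀ t ∈ R, R.count t ≤ p) ∨
      (∃ t : F, (t = 1 ∨ t = -1) ∧ (p = 2 ∨ p = 3) ∧ ∀ s ∈ R, s = ι t) := by
    by_contra hcon
    push Not at hcon
    obtain ⟨⟨t, ht, hbig⟩, hno⟩ := hcon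
    have hp2 := hp.out.two_le
    have hti : t = t⁻¹ := by
      by_contra h
      have := count_pair (R := R) h
      rw [hcard, hcinv] at this
      omega
    have ht2 : t ^ 2 = 1 := by rw [sq]; nth_rewrite 2 [hti]; exact mul_inv_cancel₀ (h0 t ht)
    have hcle : R.count t ≤ 4 := hcard ▸ Multiset.count_le_card t R
    obtain ⟨c, hc, htc⟩ : ∃ c : F, (c = 1 ∨ c = -1) ∧ t = ι c := by
      rcases sq_eq_one_iff.mp ht2 with h | h
      · exact ⟨1, Or.inl rfl, by rw [h, map_one]⟩
      · exact ⟨-1, Or.inr rfl, by rw [h, map_neg, map_one]⟩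
    have hp23 : p = 2 ∨ p = 3 := by omega
    obtain ⟨s, hs, hst⟩ := hno c hc hp23
    rw [← htc] at hst
    have h2 := count_pair (R := R) hst
    have h1 : 1 ≤ R.count s := Multiset.one_le_count_iff_mem.mpr hs
    rcases hp23 with rfl | rfl
    · by_cases hsi : s = s⁻¹
      · have hs2 : s ^ 2 = 1 := by rw [sq]; nth_rewrite 2 [hsi]; exact mul_inv_cancel₀ (h0 s hs)
        apply hst
        rcases sq_eq_one_iff.mp hs2 with h | h <;> rcases sq_eq_one_iff.mp ht2 with h' | h' <;>
          simp [h, h', CharTwo.neg_eq]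
      · have hts : t ∉ ({s, s⁻¹} : Finset Ω) := by
          simp only [Finset.mem_insert, Finset.mem_singleton, not_or]
          exact ⟨Ne.symm hst, fun h => hst (by rw [hti] at h; exact (inv_injective h).symm)⟩
        have := Multiset.toFinset_sum_count_eq R
        have hsub : insert t {s, s⁻¹} ⊆ R.toFinset := by
          intro x hx
          simp only [Finset.mem_insert, Finset.mem_singleton] at hx
          rcases hx with rfl | rfl | rfl <;> rw [Multiset.mem_toFinset]
          exacts [ht, hs, (hfix s hs).2]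
        have h3 := Finset.sum_le_sum_of_subset (f := fun x => R.count x) hsub
        rw [Finset.sum_insert hts, Finset.sum_pair hsi, this, hcard, hcinv] at h3
        omega
    · omega
  rcases hmult with hmult | ⟨c, hc, hp23, hc'⟩
  swap
  · rcases hp23 with rfl | rfl
    · refine ⟨4, by simp [expo], ?_⟩
      simpa using use 1 2 c one_pos hc (fun s hs => ⟨by rw [pow_one, hc' s hs],
        (Multiset.count_le_card s R).trans (by rw [hcard]; norm_num)⟩)
    · refine ⟨9, by simp [expo], ?_⟩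
      simpa using use 1 2 c one_pos hc (fun s hs => ⟨by rw [pow_one, hc' s hs],
        (Multiset.count_le_card s R).trans (by rw [hcard]; norm_num)⟩)
  by_cases hA : ∀ t ∈ R, t ^ (q - 1) = 1
  · refine ⟨_, hE3, ?_⟩
    simpa [mul_comm] using use (q - 1) 1 1 (by omega) (Or.inl rfl)
      (fun t ht => ⟨by rw [map_one, hA t ht], by rw [pow_one]; exact hmult t ht⟩)
  by_cases hB : ∀ t ∈ R, t ^ (q + 1) = 1
  · refine ⟨_, hE4, ?_⟩
    simpa [mul_comm] using use (q + 1) 1 1 (by omega) (Or.inl rfl)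
      (fun t ht => ⟨by rw [map_one, hB t ht], by rw [pow_one]; exact hmult t ht⟩)
  push Not at hA hB
  obtain ⟨b, hb, hb1⟩ := hA
  obtain ⟨x, hx, hx1⟩ := hB
  have hb2 := (hsplit b hb).resolve_left hb1
  have hx2 := (hsplit x hx).resolve_right hx1
  have hpow1 : ∀ {u : Ω} {n : ℕ}, u ^ n = 1 → u⁻¹ ^ n = 1 := fun h => by rw [inv_pow, h, inv_one]
  have hbb : b ≠ b⁻¹ := fun h => by
    have e : b ^ 2 = 1 := by rw [sq]; nth_rewrite 2 [h]; exact mul_inv_cancel₀ (h0 b hb)
    apply hb1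
    rw [show q + 1 = q - 1 + 2 by omega, pow_add, e, mul_one] at hb2
    exact hb2
  have hxx : x ≠ x⁻¹ := fun h => by
    have e : x ^ 2 = 1 := by rw [sq]; nth_rewrite 2 [h]; exact mul_inv_cancel₀ (h0 x hx)
    apply hx1
    rw [show q + 1 = q - 1 + 2 by omega, pow_add, e, mul_one, hx2]
  have hbx : b ≠ x := fun h => hb1 (h ▸ hx2)
  have hbx' : b ≠ x⁻¹ := fun h => hb1 (h ▸ hpow1 hx2)
  have hall := count_four hcard hb (hfix b hb).2 hx (hfix x hx).2 hbb hbx hbx'
    (fun h => hbx' (by rw [← h, inv_inv])) (fun h => hbx (inv_injective h)) hxx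
  refine ⟨_, hE1, ?_⟩
  have hq4 : 4 ≤ q ^ 2 := by nlinarith
  have hfact : q ^ 2 - 1 = (q + 1) * (q - 1) := by simpa using Nat.sq_sub_sq q 1
  obtain ⟨M, hM, hMh, hMb, hMx⟩ : ∃ M, 0 < M ∧ half p (q ^ 2 - 1) = M ∧ q + 1 ∣ M ∧ q - 1 ∣ M := by
    rcases eq_or_ne p 2 with hp2 | hp2
    · exact ⟨q ^ 2 - 1, by omega, by rw [half, if_pos hp2], hfact ▸ dvd_mul_right _ _,
        hfact ▸ dvd_mul_left _ _⟩
    · obtain ⟨r, hr⟩ : Even (q + 1) := (hodd hp2).add_odd odd_one
      obtain ⟨s, hs⟩ : Even (q - 1) := Nat.Odd.sub_odd (hodd hp2) odd_one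
      refine ⟨(q ^ 2 - 1) / 2, by omega, by rw [half, if_neg hp2], ⟨s, ?_⟩, ⟨r, ?_⟩⟩
      · rw [hfact, hs, ← two_mul, mul_left_comm, Nat.mul_div_cancel_left _ two_pos]
      · rw [hfact, hr, ← two_mul, mul_assoc, Nat.mul_div_cancel_left _ two_pos, mul_comm]
  rw [hMh]
  have h1 : ∀ {u : Ω} {n : ℕ}, n ∣ M → u ^ n = 1 → u ^ M = 1 := fun hd h => by
    obtain ⟨d, rfl⟩ := hd; rw [pow_mul, h, one_pow]
  simpa using use M 0 1 hM (Or.inl rfl) (fun t ht => ⟨by
    rw [map_one]
    rcases (hall t ht).1 with rfl | rfl | rfl | rfl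
    exacts [h1 hMb hb2, h1 hMb (hpow1 hb2), h1 hMx hx2, h1 hMx (hpow1 hx2)],
    by rw [pow_zero]; exact (hall t ht).2⟩)

end Sp4

end CfsgLib.SpecSp4
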