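import Cfsg.Agent.Lib.SpecSp4.Ext
import Cfsg.Agent.Lib.SpecSp4.Roots
import Cfsg.Agent.Lib.SpecU42.PSp

/-!
The element orders of `PSp₄(q)`.
-/

set_option autoImplicit false

namespace CfsgLib.SpecSp4

open Matrix

variable {F : Type*} [Field F] [Fintype F]

theorem mk_pow_eq_one {A : Matrix.symplecticGroup (Fin 2) F} {e : ℕ} (h : Sgn A.1 e) :
    (QuotientGroup.mk A : Cfsg.PSp 2 F) ^ e = 1 := by
  rw [← QuotientGroup.mk_pow, CfsgLib.SpectrumPowers.mk_eq_one_iff_Sp two_pos, SubmonoidClass.coe_pow]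
  rcases h with h | h
  · exact ⟨1, by rw [h, map_one], by ring⟩
  · exact ⟨-1, by rw [h, map_neg, map_one], by ring⟩

/-- Base change of symplectic matrices. -/
def spMap {K : Type*} [Field K] (φ : K →+* F) :
    Matrix.symplecticGroup (Fin 2) K →* Matrix.symplecticGroup (Fin 2) F where
  toFun M := ⟨M.1.map φ, SymplecticGroup.map_mem M.2 φ⟩
  map_one' := Subtype.ext (Matrix.map_one φ (map_zero φ) (map_one φ))
  map_mul' M N := Subtype.ext (by
    show (M.1 * N.1).map φ = M.1.map φ * N.1.map φ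
    rw [Matrix.map_mul])

theorem spMap_injective {K : Type*} [Field K] (φ : K →+* F) : Function.Injective (spMap φ) :=
  fun _ _ h => Subtype.ext (Matrix.map_injective φ.injective (congrArg Subtype.val h))

def m4 : Matrix.symplecticGroup (Fin 2) (ZMod 2) :=
  ⟨Matrix.of fun i j => (!![1, 1, 0, 1; 0, 1, 0, 1; 0, 0, 1, 0; 0, 0, 1, 1] : Matrix (Fin 4) (Fin 4) (ZMod 2))
    (finSumFinEquiv i) (finSumFinEquiv j), by rw [SymplecticGroup.mem_iff]; decide +kernel⟩

theorem m4_pow : m4.1 ^ 4 = 1 ∧ m4.1 ^ 2 ≠ 1 := by decide +kernel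

theorem exists_four [CharP F 2] : ∃ g : Cfsg.PSp 2 F, 4 ∣ orderOf g := by
  let g := spMap (ZMod.castHom (dvd_refl 2) F) m4
  have ho : orderOf m4 = 2 ^ 2 := by
    refine orderOf_eq_prime_pow (p := 2) (n := 1) ?_ ?_
    · intro h
      exact m4_pow.2 (by simpa using congrArg Subtype.val h)
    · exact Subtype.ext (by rw [SubmonoidClass.coe_pow]; exact m4_pow.1)
  refine ⟨QuotientGroup.mk' _ g, ?_⟩
  rw [orderOf_injective _ (CfsgLib.PSpGraph.mk_injective 2 rfl two_pos), orderOf_injective _ (spMap_injective _), ho]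
  norm_num

theorem exists_nine [CharP F 3] : ∃ g : Cfsg.PSp 2 F, 9 ∣ orderOf g := by
  haveI : Fact (Nat.Prime 3) := ⟨Nat.prime_three⟩
  let φ := spMap (F := F) (ZMod.castHom (dvd_refl 3) F)
  refine ⟨QuotientGroup.mk (φ CfsgLib.SpecU42.m9), dvd_of_eq (Eq.symm ((orderOf_eq_iff (by norm_num)).mpr ⟨?_, ?_⟩))⟩
  · refine mk_pow_eq_one ?_
    have h := CfsgLib.SpecU42.wit_pow.2.1
    show (CfsgLib.SpecU42.m9.1.map _) ^ 9 = 1 ∨ (CfsgLib.SpecU42.m9.1.map _) ^ 9 = -1
    rw [← Matrix.map_pow]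
    rcases h with h | h <;> rw [h]
    · exact Or.inl (Matrix.map_one _ (map_zero _) (map_one _))
    · exact Or.inr (by ext i j; by_cases hij : i = j <;> simp [hij, Matrix.one_apply])
  · intro k hk hk0 h
    rw [← QuotientGroup.mk_pow, QuotientGroup.eq_one_iff, Subgroup.mem_center_iff] at h
    have h' := h (φ CfsgLib.SpecU42.m5)
    rw [← map_pow, ← map_mul, ← map_mul] at h'
    have h'' := congrArg Subtype.val (spMap_injective _ h')
    simp only [Submonoid.coe_mul, SubmonoidClass.coe_pow] at h''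
    exact CfsgLib.SpecU42.wit_noncentral.2.1 k (Finset.mem_Ico.mpr ⟨hk0, hk⟩) h''.symm

open CfsgLib.SympBlocks in
theorem exists_mixed (p : ℕ) [hp : Fact p.Prime] [CharP F p] {N : ℕ} (hN : 0 < N) (hco : Nat.Coprime p N)
    (h : N ∣ Fintype.card F ^ 1 + 1 ∨ N ∣ Fintype.card F ^ 1 - 1) :
    ∃ g : Cfsg.PSp 2 F, p * N ∣ orderOf g := by
  obtain ⟨t, ht⟩ := CfsgLib.PSpGraph.exists_torus_order p one_pos hN h
  obtain ⟨u, hu⟩ := CfsgLib.PSpGraph.exists_order_char (F := F) p one_pos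
  let g : Matrix.symplecticGroup (Fin 2) F := Φ 1 1 (u, t)
  have hg : orderOf g = p * N := by
    rw [show g = Φ 1 1 (u, t) from rfl, orderOf_injective _ Φ_injective, Prod.orderOf, hu, ht, hco.lcm_eq_mul]
  refine ⟨QuotientGroup.mk g, ?_⟩
  rw [← hg]
  refine orderOf_dvd_of_pow_eq_one ?_
  set k := orderOf (QuotientGroup.mk g : Cfsg.PSp 2 F)
  obtain ⟨s, hs, hs2⟩ := (CfsgLib.SpectrumPowers.mk_eq_one_iff_Sp two_pos (g ^ k)).mp
    (by rw [QuotientGroup.mk_pow]; exact pow_orderOf_eq_one _)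
  have hgk : g ^ k = Φ 1 1 (u ^ k, t ^ k) := by
    rw [show g = Φ 1 1 (u, t) from rfl, ← map_pow]; rfl
  have huk : (u ^ k).1 = Matrix.scalar _ s := by
    ext i j
    rw [hgk] at hs
    have h2 := congrFun (congrFun (congrArg (blk (a := 1) (b := 1)) hs) (Sum.inl i)) (Sum.inl j)
    erw [blk_Φ] at h2
    refine Eq.trans h2 ?_
    by_cases hij : i = j <;> simp [blk, hij, Matrix.scalar_apply]
  have hsp : Matrix.scalar (Fin 1 ⊕ Fin 1) (s ^ p) = Matrix.scalar (Fin 1 ⊕ Fin 1) 1 := by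
    rw [map_pow, ← huk, ← SubmonoidClass.coe_pow, ← pow_mul, mul_comm, pow_mul, ← hu, pow_orderOf_eq_one,
      one_pow, map_one]
    rfl
  have hsp' : s ^ p = 1 := (Matrix.scalar_inj (n := Fin 1 ⊕ Fin 1)).mp hsp
  have hs1 : s = 1 := by
    rcases hp.out.eq_two_or_odd' with rfl | ho
    · rcases sq_eq_one_iff.mp hs2 with h | h
      · exact h
      · rw [h, CharTwo.neg_eq]
    · rcases sq_eq_one_iff.mp hs2 with h | h
      · exact h
      · rw [h, ho.neg_one_pow] at hsp'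
        rw [h, hsp']
  exact Subtype.ext (by rw [hs, hs1, map_one]; rfl)

/-- The element orders of `PSp₄(q)`. -/
theorem psp_range (p : ℕ) [hp : Fact p.Prime] [CharP F p] :
    Set.range (orderOf : Cfsg.PSp 2 F → ℕ) = {n | ∃ e ∈ expo p (Fintype.card F), n ∣ e} := by
  classical
  refine range_eq_of _ (fun g => ?_) ?_
  · obtain ⟨A, rfl⟩ := QuotientGroup.mk_surjective g
    obtain ⟨e, he, h⟩ := sp4_upper p A
    exact ⟨e, he, mk_pow_eq_one h⟩
  obtain ⟨a, ha, hF⟩ := CfsgLib.PSpGraph.card_eq_pow F p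
  set q := Fintype.card F with hq
  have hq2 : 2 ≤ q := Fintype.one_lt_card
  have hq4 : 4 ≤ q ^ 2 := by nlinarith
  have hcop : Nat.Coprime p (q - 1) ∧ Nat.Coprime p (q + 1) := by
    have hd : p ∣ q := hF ▸ dvd_pow_self p (by omega)
    refine ⟨hp.out.coprime_iff_not_dvd.mpr fun h => ?_, hp.out.coprime_iff_not_dvd.mpr fun h => ?_⟩
    · have := Nat.dvd_sub hd h
      rw [show q - (q - 1) = 1 by omega] at this
      exact hp.out.one_lt.ne' (Nat.dvd_one.mp this)
    · exact hp.out.one_lt.ne' (Nat.dvd_one.mp ((Nat.dvd_add_right hd).mp h))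
  have tori : ∀ N : ℕ, 0 < N → (N ∣ q ^ 2 + 1 ∨ N ∣ q ^ 2 - 1) → (p ≠ 2 → Even N) →
      ∃ g : Cfsg.PSp 2 F, half p N ∣ orderOf g := by
    intro N hN h hev
    obtain ⟨g, hg⟩ := CfsgLib.PSpGraph.exists_torus_order (F := F) p two_pos hN h
    refine ⟨QuotientGroup.mk' _ g, ?_⟩
    rcases eq_or_ne p 2 with hp2 | hp2
    · rw [half, if_pos hp2, orderOf_injective _ (CfsgLib.PSpGraph.mk_injective p hp2 two_pos), hg]
    · obtain ⟨r, rfl⟩ := hev hp2
      rw [half, if_neg hp2, show (r + r) / 2 = r by omega]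
      refine (Nat.mul_dvd_mul_iff_left two_pos).mp ?_
      rw [two_mul, ← hg]
      exact CfsgLib.SpectrumPowers.dvd_two_mul_orderOf_mk two_pos g
  have hodd : p ≠ 2 → Odd q := fun h => hF ▸ (hp.out.odd_of_ne_two h).pow
  have w1 := tori (q ^ 2 - 1) (by omega) (Or.inr dvd_rfl) (fun h => Nat.Odd.sub_odd ((hodd h).pow) odd_one)
  have w2 := tori (q ^ 2 + 1) (by omega) (Or.inl dvd_rfl) (fun h => ((hodd h).pow).add_odd odd_one)
  have w3 : ∃ g : Cfsg.PSp 2 F, p * (q - 1) ∣ orderOf g :=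
    exists_mixed p (by omega) hcop.1 (Or.inr (by rw [pow_one]))
  have w4 : ∃ g : Cfsg.PSp 2 F, p * (q + 1) ∣ orderOf g :=
    exists_mixed p (by omega) hcop.2 (Or.inl (by rw [pow_one]))
  unfold expo
  rcases eq_or_ne p 2 with rfl | hp2
  · simp only [half, if_true] at w1 w2
    simp [w1, w2, w3, w4, exists_four]
  · simp only [half, if_neg hp2] at w1 w2
    rcases eq_or_ne p 3 with rfl | hp3
    · simp [hp2, w1, w2, w3, w4, exists_nine]
    · simp [hp2, hp3, w1, w2, w3, w4]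

end CfsgLib.SpecSp4
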