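import Cfsg.Agent.Lib.SpecSp4.Ext
import Cfsg.Agent.Lib.SpecU42.PSp

/-!
The deleted permutation module of the symmetric group of degree five over three elements, twisted by the sign.
-/

set_option autoImplicit false

namespace CfsgLib.SpecSp4

open Equiv

abbrev G5 := Equiv.Perm (Fin 5)

/-- Functions with zero sum. -/
def zeroSum : Submodule (ZMod 3) (Fin 5 → ZMod 3) where
  carrier := {f | ∑ i, f i = 0}
  add_mem' {f g} hf hg := by
    simp only [Set.mem_setOf_eq, Pi.add_apply, Finset.sum_add_distrib] at *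
    rw [hf, hg, add_zero]
  zero_mem' := by simp
  smul_mem' c f hf := by
    simp only [Set.mem_setOf_eq, Pi.smul_apply, ← Finset.smul_sum] at *
    rw [hf, smul_zero]

/-- The sign as an element of the field. -/
def sgn5 (s : G5) : ZMod 3 := ((Equiv.Perm.sign s : ℤ) : ZMod 3)

theorem sgn5_mul (s t : G5) : sgn5 (s * t) = sgn5 s * sgn5 t := by
  simp [sgn5, Units.val_mul, Int.cast_mul]

instance : DistribMulAction G5 zeroSum where
  smul s f := ⟨fun i => sgn5 s * f.1 (s⁻¹ i), by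
    show ∑ i, sgn5 s * f.1 (s⁻¹ i) = 0
    rw [← Finset.mul_sum, Equiv.sum_comp s⁻¹ f.1, show ∑ i, f.1 i = 0 from f.2, mul_zero]⟩
  one_smul f := Subtype.ext (funext fun i => by
    show sgn5 1 * f.1 ((1 : G5)⁻¹ i) = f.1 i
    simp [sgn5])
  mul_smul s t f := Subtype.ext (funext fun i => by
    show sgn5 (s * t) * f.1 ((s * t)⁻¹ i) = sgn5 s * (sgn5 t * f.1 (t⁻¹ (s⁻¹ i)))
    rw [sgn5_mul, _root_.mul_inv_rev, Equiv.Perm.mul_apply, mul_assoc])
  smul_zero s := Subtype.ext (funext fun i => by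
    show sgn5 s * (0 : ZMod 3) = 0
    rw [mul_zero])
  smul_add s f g := Subtype.ext (funext fun i => by
    show sgn5 s * (f.1 (s⁻¹ i) + g.1 (s⁻¹ i)) = sgn5 s * f.1 (s⁻¹ i) + sgn5 s * g.1 (s⁻¹ i)
    rw [mul_add])

theorem smul5_apply (s : G5) (f : zeroSum) (i : Fin 5) : (s • f).1 i = sgn5 s * f.1 (s⁻¹ i) := rfl

/-- `e_j - e_0`. -/
def bas5 (j : Fin 5) : Fin 5 → ZMod 3 := fun i => (if i = j then 1 else 0) - (if i = 0 then 1 else 0)

theorem bas5_mem (j : Fin 5) : bas5 j ∈ zeroSum := by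
  show ∑ i, bas5 j i = 0
  simp [bas5, Finset.sum_sub_distrib]

theorem decompose (f : zeroSum) : f = ∑ j, f.1 j • (⟨bas5 j, bas5_mem j⟩ : zeroSum) := by
  refine Subtype.ext (funext fun i => ?_)
  have h : ∑ j, f.1 j = 0 := f.2
  simp only [AddSubmonoidClass.coe_finset_sum, Submodule.coe_smul, Finset.sum_apply, Pi.smul_apply, smul_eq_mul,
    bas5, mul_sub, Finset.sum_sub_distrib, ← Finset.sum_mul, h, zero_mul, sub_zero]
  simp

theorem smul_linear (s : G5) (c : ZMod 3) (f : zeroSum) : s • (c • f) = c • (s • f) :=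
  Subtype.ext (funext fun i => by
    show sgn5 s * (c * f.1 (s⁻¹ i)) = c * (sgn5 s * f.1 (s⁻¹ i))
    ring)

theorem gsum_zero_of_basis (s : G5) (n : ℕ) (h : ∀ j, gsum s n (⟨bas5 j, bas5_mem j⟩ : zeroSum) = 0)
    (f : zeroSum) : gsum s n f = 0 := by
  rw [decompose f, gsum]
  simp only [Finset.smul_sum, smul_linear]
  rw [Finset.sum_comm]
  refine Finset.sum_eq_zero fun j _ => ?_
  rw [← Finset.smul_sum, ← gsum, h, smul_zero]

theorem table5 : ∀ s : G5, s ^ 3 = 1 ∨ s ^ 4 = 1 ∨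
    (s ^ 5 = 1 ∧ ∀ j i : Fin 5, ∑ k ∈ Finset.range 5, sgn5 (s ^ k) * bas5 j ((s ^ k)⁻¹ i) = 0) ∨
    (s ^ 6 = 1 ∧ ∀ j i : Fin 5, ∑ k ∈ Finset.range 6, sgn5 (s ^ k) * bas5 j ((s ^ k)⁻¹ i) = 0) := by
  decide +kernel

theorem gsum5_apply (s : G5) (n : ℕ) (f : zeroSum) (i : Fin 5) :
    (gsum s n f).1 i = ∑ k ∈ Finset.range n, sgn5 (s ^ k) * f.1 ((s ^ k)⁻¹ i) := by
  simp only [gsum, AddSubmonoidClass.coe_finset_sum, Finset.sum_apply, smul5_apply]

theorem fine5 (s : G5) : ∃ e ∈ [9, 5, 12], Fine zeroSum s e := by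
  have hV : ∀ v : zeroSum, 3 • v = 0 := fun v => Subtype.ext (funext fun i => by
    show 3 • v.1 i = 0
    rw [nsmul_eq_mul, show ((3 : ℕ) : ZMod 3) = 0 from rfl, zero_mul])
  rcases table5 s with h | h | ⟨h, hs⟩ | ⟨h, hs⟩
  · exact ⟨3 * 3, by simp, fine_mul_char hV h⟩
  · exact ⟨3 * 4, by simp, fine_mul_char hV h⟩
  · exact ⟨5, by simp, h, fun v => gsum_zero_of_basis s 5 (fun j =>
      Subtype.ext (funext fun i => by rw [gsum5_apply]; exact hs j i)) v⟩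
  · exact ⟨12, by simp, fine_of_dvd (n := 6) ⟨h, fun v => gsum_zero_of_basis s 6 (fun j =>
      Subtype.ext (funext fun i => by rw [gsum5_apply]; exact hs j i)) v⟩ (by norm_num)⟩

def c3' : G5 := Equiv.swap 0 1 * Equiv.swap 1 2
def c4' : G5 := Equiv.swap 0 1 * Equiv.swap 1 2 * Equiv.swap 2 3
def c5' : G5 := Equiv.swap 0 1 * Equiv.swap 1 2 * Equiv.swap 2 3 * Equiv.swap 3 4
def f3' : zeroSum := ⟨![1, 0, 0, 2, 0], by show ∑ i, _ = 0; decide⟩
def f4' : zeroSum := ⟨![1, 2, 1, 2, 0], by show ∑ i, _ = 0; decide⟩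

theorem c_facts : c3' ^ 3 = 1 ∧ c3' ≠ 1 ∧ c4' ^ 4 = 1 ∧ c4' ^ 2 ≠ 1 ∧ c5' ^ 5 = 1 ∧ c5' ≠ 1 ∧
    ((∑ k ∈ Finset.range 3, sgn5 (c3' ^ k) * f3'.1 ((c3' ^ k)⁻¹ 0)) ≠ 0) ∧
    ((∑ k ∈ Finset.range 4, sgn5 (c4' ^ k) * f4'.1 ((c4' ^ k)⁻¹ 0)) ≠ 0) := by
  decide +kernel

theorem exists_q3 (N : ℕ) :
    ∃ (H : Type) (_ : Group H) (_ : Fintype H), N < Fintype.card H ∧
      Set.range (orderOf : H → ℕ) = ↑({1, 2, 3, 4, 5, 6, 9, 12} : Finset ℕ) := by
  haveI : Fact (Nat.Prime 3) := ⟨Nat.prime_three⟩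
  haveI : Fact (Nat.Prime 2) := ⟨Nat.prime_two⟩
  haveI : Fact (Nat.Prime 5) := ⟨by norm_num⟩
  have hV : ∀ v : zeroSum, 3 • v = 0 := fun v => Subtype.ext (funext fun i => by
    show 3 • v.1 i = 0
    rw [nsmul_eq_mul, show ((3 : ℕ) : ZMod 3) = 0 from rfl, zero_mul])
  haveI : Finite zeroSum := Finite.of_injective Subtype.val Subtype.val_injective
  haveI : Finite (Ext G5 zeroSum (N + 1)) := Finite.of_equiv _ SemidirectProduct.equivProd.symm
  obtain ⟨h3, h3', h4, h4', h5, h5', g3, g4⟩ := c_facts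
  have o3 : orderOf c3' = 3 := orderOf_eq_prime h3 h3'
  have o4 : orderOf c4' = 4 := orderOf_eq_prime_pow (p := 2) (n := 1) h4' h4
  have o5 : orderOf c5' = 5 := orderOf_eq_prime h5 h5'
  obtain ⟨x9, hx9⟩ := exists_orderOf_ext (k := N + 1) hV N.succ_pos (g := c3') (isOfFinOrder_of_finite _) (v := f3')
    (by rw [o3]; intro h; exact g3 (by rw [← gsum5_apply, h]; rfl))
  obtain ⟨x12, hx12⟩ := exists_orderOf_ext (k := N + 1) hV N.succ_pos (g := c4') (isOfFinOrder_of_finite _) (v := f4')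
    (by rw [o4]; intro h; exact g4 (by rw [← gsum5_apply, h]; rfl))
  obtain ⟨H, iG, iF, ⟨e⟩⟩ := CfsgLib.PrimeGraphModule.exists_small (H := Ext G5 zeroSum (N + 1))
  refine ⟨H, iG, iF, ?_, ?_⟩
  · rw [← Nat.card_eq_fintype_card, Nat.card_congr e.toEquiv,
      Nat.card_congr SemidirectProduct.equivProd, Nat.card_prod]
    rw [Nat.card_congr Multiplicative.toAdd, Nat.card_fun, Nat.card_fin]
    haveI : Nontrivial zeroSum := nontrivial_of_ne f3' 0 (fun h => by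
      have := congrFun (congrArg Subtype.val h) 0; exact absurd this (by decide))
    calc N < 2 ^ (N + 1) := lt_of_lt_of_le (by omega) Nat.lt_two_pow_self.le
      _ ≤ Nat.card zeroSum ^ (N + 1) := Nat.pow_le_pow_left Finite.one_lt_card _
      _ ≤ _ := Nat.le_mul_of_pos_right _ Nat.card_pos
  · rw [CfsgLib.SpecU42.range_congr e]
    refine CfsgLib.SpecU42.range_eq (fun x => ?_) ⟨x9, by rw [hx9, o3]⟩
      ⟨SemidirectProduct.inr c5', by rw [orderOf_injective _ SemidirectProduct.inr_injective, o5]⟩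
      ⟨x12, by rw [hx12, o4]⟩
    obtain ⟨n, hn, h1, h2⟩ := fine5 x.right
    have := (pow_eq_one_iff_gsum x n).mpr ⟨h1, fun i => h2 _⟩
    simp only [List.mem_cons, List.not_mem_nil, or_false] at hn
    rcases hn with rfl | rfl | rfl
    exacts [Or.inl this, Or.inr (Or.inl this), Or.inr (Or.inr this)]

end CfsgLib.SpecSp4
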