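import Cfsg.Agent.Lib.SpecSp4.Twisted

/-!
A sixteen dimensional tensor product module of `SL₂(q²)` in characteristic three.
-/

set_option autoImplicit false

namespace CfsgLib.SpecSp4

open Matrix
open scoped Kronecker

variable {K : Type*} [Field K]

/-- The Kronecker square of two field maps. -/
def kron2 (f g : K →+* K) :
    SpecialLinearGroup (Fin 2) K →* Matrix (Fin 2 × Fin 2) (Fin 2 × Fin 2) K where
  toFun x := (x.1.map f) ⊗ₖ (x.1.map g)
  map_one' := by
    show ((1 : Matrix (Fin 2) (Fin 2) K).map f) ⊗ₖ ((1 : Matrix (Fin 2) (Fin 2) K).map g) = 1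
    rw [Matrix.map_one f (map_zero f) (map_one f), Matrix.map_one g (map_zero g) (map_one g),
      Matrix.one_kronecker_one]
  map_mul' x y := by
    rw [sl_mul, Matrix.map_mul, Matrix.map_mul, Matrix.mul_kronecker_mul]

variable (a : ℕ) [Fact (Nat.Prime 3)] [CharP K 3]

abbrev PL : SpecialLinearGroup (Fin 2) K →* Matrix (Fin 2 × Fin 2) (Fin 2 × Fin 2) K :=
  kron2 (RingHom.id K) (iterateFrobenius K 3 1)

abbrev QR : SpecialLinearGroup (Fin 2) K →* Matrix (Fin 2 × Fin 2) (Fin 2 × Fin 2) K :=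
  kron2 (sg 3 a) (sg 3 a)

/-- The action. -/
def act16 : SpecialLinearGroup (Fin 2) K →*
    (Matrix (Fin 2 × Fin 2) (Fin 2 × Fin 2) K ≃ₗ[K] Matrix (Fin 2 × Fin 2) (Fin 2 × Fin 2) K) where
  toFun g :=
    { toFun := fun X => PL g * X * (QR a g)ᵀ
      invFun := fun X => PL g⁻¹ * X * (QR a g⁻¹)ᵀ
      map_add' := fun X Y => by rw [Matrix.mul_add, Matrix.add_mul]
      map_smul' := fun c X => by rw [RingHom.id_apply, Matrix.mul_smul, Matrix.smul_mul]
      left_inv := fun X => by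
        show PL g⁻¹ * (PL g * X * (QR a g)ᵀ) * (QR a g⁻¹)ᵀ = X
        rw [← Matrix.mul_assoc, ← Matrix.mul_assoc, ← map_mul, inv_mul_cancel, map_one, Matrix.one_mul,
          Matrix.mul_assoc, ← Matrix.transpose_mul, ← map_mul, inv_mul_cancel, map_one, Matrix.transpose_one,
          Matrix.mul_one]
      right_inv := fun X => by
        show PL g * (PL g⁻¹ * X * (QR a g⁻¹)ᵀ) * (QR a g)ᵀ = X
        rw [← Matrix.mul_assoc, ← Matrix.mul_assoc, ← map_mul, mul_inv_cancel, map_one, Matrix.one_mul,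
          Matrix.mul_assoc, ← Matrix.transpose_mul, ← map_mul, mul_inv_cancel, map_one, Matrix.transpose_one,
          Matrix.mul_one] }
  map_one' := LinearEquiv.ext fun X => by
    show PL 1 * X * (QR a 1)ᵀ = X
    rw [map_one, map_one, Matrix.transpose_one, Matrix.one_mul, Matrix.mul_one]
  map_mul' g h := LinearEquiv.ext fun X => by
    show PL (g * h) * X * (QR a (g * h))ᵀ = PL g * (PL h * X * (QR a h)ᵀ) * (QR a g)ᵀ
    rw [map_mul, map_mul, Matrix.transpose_mul]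
    simp only [Matrix.mul_assoc]

theorem act16_apply (g : SpecialLinearGroup (Fin 2) K) (X : Matrix (Fin 2 × Fin 2) (Fin 2 × Fin 2) K) :
    act16 a g X = PL g * X * (QR a g)ᵀ := rfl

theorem kron2_apply (f g : K →+* K) (x : SpecialLinearGroup (Fin 2) K) (i j : Fin 2 × Fin 2) :
    kron2 f g x i j = f (x.1 i.1 j.1) * g (x.1 i.2 j.2) := rfl

theorem kron2_sgn (f g : K →+* K) {x : SpecialLinearGroup (Fin 2) K} (h : x.1 = 1 ∨ x.1 = -1) :
    kron2 f g x = 1 := by
  ext ⟨i, j⟩ ⟨k, l⟩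
  rw [kron2_apply]
  rcases h with h | h <;> rw [h] <;>
    by_cases h1 : i = k <;> by_cases h2 : j = l <;> simp [h1, h2, Matrix.one_apply]

theorem act16_eq_one_of_sgn {g : SpecialLinearGroup (Fin 2) K} {M : ℕ} (h : Sgn g.1 M) :
    act16 a g ^ M = 1 := by
  rw [← map_pow]
  refine LinearEquiv.ext fun X => ?_
  have h' : (g ^ M).1 = 1 ∨ (g ^ M).1 = -1 := by rw [sl_pow]; exact h
  rw [act16_apply, PL, QR, kron2_sgn _ _ h', kron2_sgn _ _ h', Matrix.transpose_one, Matrix.one_mul, Matrix.mul_one]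
  rfl

theorem sq_eq_one_of_act16 {g : SpecialLinearGroup (Fin 2) K} (h : act16 a g = 1) : g ^ 2 = 1 := by
  have hX : ∀ X, PL g * X * (QR a g)ᵀ = X := fun X => by rw [← act16_apply, h]; rfl
  have h1 := hX 1
  rw [Matrix.mul_one] at h1
  have hcomm : ∀ X, X * PL g = PL g * X := fun X => by
    calc X * PL g = PL g * X * (QR a g)ᵀ * PL g := by rw [hX]
      _ = PL g * X * ((QR a g)ᵀ * PL g) := Matrix.mul_assoc _ _ _
      _ = PL g * X := by rw [mul_eq_one_comm.mp h1, Matrix.mul_one]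
  obtain ⟨r, hr⟩ := Matrix.mem_range_scalar_of_commute_single (M := PL g) fun i j _ => hcomm _
  have he : ∀ i j k l : Fin 2, g.1 i k * g.1 j l ^ 3 = if (i, j) = (k, l) then r else 0 := fun i j k l => by
    have := congrFun (congrFun hr (i, j)) (k, l)
    rw [kron2_apply, RingHom.id_apply, iterateFrobenius_def, pow_one] at this
    rw [← this, Matrix.scalar_apply, Matrix.diagonal_apply]
  have h01 : g.1 0 1 = 0 := by
    have := he 0 0 1 1
    simp only [Prod.mk.injEq, zero_ne_one, and_self, if_false, ← pow_succ'] at this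
    exact pow_eq_zero_iff (n := 4) (by norm_num) |>.mp this
  have h10 : g.1 1 0 = 0 := by
    have := he 1 1 0 0
    simp only [Prod.mk.injEq, one_ne_zero, and_self, if_false, ← pow_succ'] at this
    exact pow_eq_zero_iff (n := 4) (by norm_num) |>.mp this
  have hd := g.2
  rw [Matrix.det_fin_two] at hd
  have hd' : g.1 0 0 * g.1 1 1 = 1 := by
    have : g.1 0 1 * g.1 1 0 = 0 := by rw [h01, zero_mul]
    linear_combination hd + this
  have h00 : g.1 0 0 ≠ 0 := fun h => by rw [h, zero_mul] at hd'; exact zero_ne_one hd'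
  have hcube : g.1 1 1 ^ 3 = g.1 0 0 ^ 3 := by
    have e1 := he 0 0 0 0
    have e2 := he 0 1 0 1
    simp only [if_true] at e1 e2
    exact mul_left_cancel₀ h00 (e2.trans e1.symm)
  have heq : g.1 1 1 = g.1 0 0 := by
    have h3 : (g.1 1 1 - g.1 0 0) ^ 3 = 0 := by rw [sub_pow_char, hcube, sub_self]
    exact sub_eq_zero.mp (pow_eq_zero_iff (n := 3) (by norm_num) |>.mp h3)
  refine Subtype.ext ?_
  rw [sl_pow, sq]
  show g.1 * g.1 = 1
  rw [heq] at hd'
  ext i j
  fin_cases i <;> fin_cases j <;> simp [Matrix.mul_apply, Fin.sum_univ_two, h01, h10, heq, hd']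

theorem orderOf_dvd_two_mul16 (g : SpecialLinearGroup (Fin 2) K) : orderOf g ∣ 2 * orderOf (act16 a g) := by
  refine orderOf_dvd_of_pow_eq_one ?_
  rw [mul_comm, pow_mul]
  exact sq_eq_one_of_act16 a (by rw [map_pow, pow_orderOf_eq_one])

theorem char_nsmul16 (X : Matrix (Fin 2 × Fin 2) (Fin 2 × Fin 2) K) : 3 • X = 0 := by
  ext i j
  rw [Matrix.smul_apply, nsmul_eq_mul, CharP.cast_eq_zero, zero_mul]
  rfl

omit [Fact (Nat.Prime 3)] [CharP K 3] in
theorem weights {Ω : Type*} [Field Ω] {μ : Ω} (h2 : μ ^ 2 ≠ 1) {q : ℕ} (hq : 3 ≤ q) (hq3 : 3 ∣ q)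
    (hq4 : 4 ∣ q - 1) (hq5 : q % 5 = 1 ∨ q % 5 = 4) (hμ : μ ^ (q ^ 2 - 1) = 1 ∨ μ ^ (q ^ 2 + 1) = 1)
    (i j k l : Fin 2) (h : ![μ, μ⁻¹] i * ![μ, μ⁻¹] j ^ 3 * ![μ, μ⁻¹] k ^ q * ![μ, μ⁻¹] l ^ q = 1) :
    μ ^ (2 * (q - 1)) = 1 ∨ μ ^ (2 * (q + 1)) = 1 := by
  set n := orderOf μ with hn
  have h0 : μ ≠ 0 := by
    rintro rfl
    have hq' : q ^ 2 - 1 ≠ 0 := by have : 9 ≤ q ^ 2 := by nlinarith
                                   omega
    rcases hμ with h' | h' <;> simp [hq'] at h'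
  let s : Fin 2 → ℤ := ![1, -1]
  have hd : ∀ i, ![μ, μ⁻¹] i = μ ^ s i := fun i => by fin_cases i <;> simp [s]
  have hint : (n : ℤ) ∣ s i + 3 * s j + q * s k + q * s l := by
    rw [hn, show orderOf μ = orderOf (Units.mk0 μ h0) from (orderOf_units (y := Units.mk0 μ h0)),
      orderOf_dvd_iff_zpow_eq_one, ← Units.val_eq_one, Units.val_zpow_eq_zpow_val, Units.val_mk0, zpow_add₀ h0, zpow_add₀ h0, zpow_add₀ h0, mul_comm (3 : ℤ),
      mul_comm (q : ℤ) (s k), mul_comm (q : ℤ) (s l), _root_.zpow_mul, _root_.zpow_mul, _root_.zpow_mul]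
    rw [hd, hd, hd, hd] at h
    exact_mod_cast h
  have hnat : n ∣ (s i + 3 * s j + q * s k + q * s l).natAbs := Int.natCast_dvd.mp hint
  have hn2 : ¬ n ∣ 2 := fun h' => h2 (orderOf_dvd_iff_pow_eq_one.mp h')
  have hbad : ∀ r, (r = q + 2 ∨ r = q - 2) → ¬ n ∣ 2 * r := by
    intro r hr hdr
    have hsq : q ^ 2 - 4 = (q + 2) * (q - 2) := by simpa using Nat.sq_sub_sq q 2
    have hrd : r ∣ q ^ 2 - 4 := by
      rw [hsq]; rcases hr with rfl | rfl
      · exact dvd_mul_right _ _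
      · exact dvd_mul_left _ _
    have h1 : n ∣ 2 * (q ^ 2 - 4) := hdr.trans (mul_dvd_mul_left 2 hrd)
    have hq9 : 9 ≤ q ^ 2 := by nlinarith
    obtain ⟨c, hc, hcn⟩ : ∃ c, (c = 3 ∨ c = 5) ∧ n ∣ 2 * c := by
      rcases hμ with h' | h'
      · refine ⟨3, Or.inl rfl, ?_⟩
        have := Nat.dvd_sub ((orderOf_dvd_of_pow_eq_one h').mul_left 2) h1
        rwa [show 2 * (q ^ 2 - 1) - 2 * (q ^ 2 - 4) = 2 * 3 by omega] at this
      · refine ⟨5, Or.inr rfl, ?_⟩
        have := Nat.dvd_sub ((orderOf_dvd_of_pow_eq_one h').mul_left 2) h1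
        rwa [show 2 * (q ^ 2 + 1) - 2 * (q ^ 2 - 4) = 2 * 5 by omega] at this
    have hco : Nat.gcd c r = 1 := by
      have hp : c.Prime := by rcases hc with rfl | rfl <;> norm_num
      refine (hp.coprime_iff_not_dvd.mpr fun hd' => ?_).gcd_eq_one
      obtain ⟨d, hd'⟩ := hd'
      obtain ⟨e, he⟩ := hq3
      rcases hc with rfl | rfl <;> rcases hr with rfl | rfl <;> omega
    have h3 := Nat.dvd_gcd hcn hdr
    rw [Nat.gcd_mul_left, hco, mul_one] at h3
    exact hn2 h3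
  have hgood : ∀ e, n ∣ e → (e = 4 ∨ e = 2 * (q - 1)) → μ ^ (2 * (q - 1)) = 1 := by
    intro e hne he
    refine orderOf_dvd_iff_pow_eq_one.mp (hne.trans ?_)
    rcases he with rfl | rfl
    · exact hq4.trans (dvd_mul_left _ _)
    · exact dvd_rfl
  have key : (s i + 3 * s j + q * s k + q * s l).natAbs ∈
      [2, 4, 2 * (q + 2), 2 * (q - 2), 2 * (q + 1), 2 * (q - 1)] := by
    simp only [List.mem_cons, List.not_mem_nil, or_false]
    fin_cases i <;> fin_cases j <;> fin_cases k <;> fin_cases l <;> simp [s] <;> omega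
  simp only [List.mem_cons, List.not_mem_nil, or_false] at key
  rcases key with e | e | e | e | e | e <;> rw [e] at hnat
  · exact absurd hnat hn2
  · exact Or.inl (hgood _ hnat (Or.inl rfl))
  · exact absurd hnat (hbad _ (Or.inl rfl))
  · exact absurd hnat (hbad _ (Or.inr rfl))
  · exact Or.inr (orderOf_dvd_iff_pow_eq_one.mp hnat)
  · exact Or.inl (hgood _ hnat (Or.inr rfl))

theorem diag_val {Ω : Type*} [Field Ω] (μ : Ω) :
    !![μ, 0; 0, μ⁻¹] = Matrix.diagonal ![μ, μ⁻¹] := by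
  ext i j; fin_cases i <;> fin_cases j <;> simp

/-- A fixed vector of a semisimple element. -/
theorem weight_of_fixed {g : SpecialLinearGroup (Fin 2) K} {Ω : Type*} [Field Ω] [Algebra K Ω] {μ : Ω}
    (h0 : μ ≠ 0) (h2 : μ ^ 2 ≠ 1) (hsum : μ + μ⁻¹ = algebraMap K Ω g.1.trace)
    {X : Matrix (Fin 2 × Fin 2) (Fin 2 × Fin 2) K} (hX : X ≠ 0) (h : act16 a g X = X) :
    ∃ i j k l : Fin 2, ![μ, μ⁻¹] i * ![μ, μ⁻¹] j ^ 3 * ![μ, μ⁻¹] k ^ 3 ^ a * ![μ, μ⁻¹] l ^ 3 ^ a = 1 := by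
  haveI : CharP Ω 3 := charP_of_injective_algebraMap (algebraMap K Ω).injective 3
  set ι := algebraMap K Ω with hι
  set G := g.1.map ι with hG
  have hdet : G.det = 1 := by rw [hG, ← RingHom.mapMatrix_apply, ← RingHom.map_det, g.2, map_one]
  have heig : ∀ ν : Ω, ν + ν⁻¹ = μ + μ⁻¹ → ν ≠ 0 → ∃ v : Fin 2 → Ω, v ≠ 0 ∧ G *ᵥ v = ν • v := by
    intro ν hν hν0
    have hz : (G - ν • 1).det = 0 := by
      rw [Matrix.det_fin_two] at hdet ⊢
      have ht : G 0 0 + G 1 1 = ν + ν⁻¹ := by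
        rw [hν, hsum, Matrix.trace_fin_two, map_add]; rfl
      have hinv : ν⁻¹ * ν = 1 := inv_mul_cancel₀ hν0
      simp
      linear_combination hdet - ν * ht - hinv
    obtain ⟨v, hv, hv'⟩ := Matrix.exists_mulVec_eq_zero_iff.mpr hz
    refine ⟨v, hv, ?_⟩
    rwa [Matrix.sub_mulVec, Matrix.smul_mulVec, Matrix.one_mulVec, sub_eq_zero] at hv'
  obtain ⟨v, hv, hvG⟩ := heig μ rfl h0
  obtain ⟨w, hw, hwG⟩ := heig μ⁻¹ (by rw [inv_inv, add_comm]) (inv_ne_zero h0)
  let P : Matrix (Fin 2) (Fin 2) Ω := Matrix.of fun r c => if c = 0 then v r else w r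
  set D : Matrix (Fin 2) (Fin 2) Ω := Matrix.diagonal ![μ, μ⁻¹] with hD
  have hPD : G * P = P * D := by
    ext r c
    rw [Matrix.mul_apply_eq_vecMul, hD, Matrix.mul_diagonal]
    fin_cases c
    · exact ((congrFun hvG r).trans (mul_comm _ _))
    · exact ((congrFun hwG r).trans (mul_comm _ _))
  have hP : P.det ≠ 0 := by
    intro hz
    obtain ⟨c, hc, hc'⟩ := Matrix.exists_mulVec_eq_zero_iff.mpr hz
    have e1 : c 0 • v + c 1 • w = 0 := by
      rw [← hc']
      ext r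
      simp [P, Matrix.mulVec, dotProduct, Fin.sum_univ_two, mul_comm]
    have e2 : (c 0 * μ) • v + (c 1 * μ⁻¹) • w = 0 := by
      have := congrArg (G *ᵥ ·) e1
      simpa [Matrix.mulVec_add, Matrix.mulVec_smul, hvG, hwG, smul_smul] using this
    have e3 : (c 0 * μ - c 0 * μ⁻¹) • v = 0 := by
      have e1' : (c 0 * μ⁻¹) • v + (c 1 * μ⁻¹) • w = 0 := by
        have := congrArg (μ⁻¹ • ·) e1
        simpa [smul_add, smul_smul, mul_comm] using this
      rw [sub_smul, sub_eq_zero]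
      exact add_right_cancel (e2.trans e1'.symm)
    have hc0 : c 0 = 0 := by
      rcases smul_eq_zero.mp e3 with h' | h'
      · rw [← mul_sub] at h'
        refine (mul_eq_zero.mp h').resolve_right fun h'' => h2 ?_
        rw [sub_eq_zero] at h''
        rw [sq]; nth_rewrite 2 [h'']; exact mul_inv_cancel₀ h0
      · exact absurd h' hv
    rw [hc0, zero_smul, zero_add, smul_eq_zero] at e1
    exact hc (funext fun r => by fin_cases r; exacts [hc0, e1.resolve_right hw])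
  let c3 : Ω →+* Ω := iterateFrobenius Ω 3 1
  let sq' : Ω →+* Ω := iterateFrobenius Ω 3 a
  set A1 := P ⊗ₖ P.map c3 with hA1
  set A2 := P.map sq' ⊗ₖ P.map sq' with hA2
  set D1 := D ⊗ₖ D.map c3 with hD1
  set D2 := D.map sq' ⊗ₖ D.map sq' with hD2
  have hm1 : (PL g).map ι = G ⊗ₖ G.map c3 := by
    ext x y
    show ι (g.1 x.1 y.1 * iterateFrobenius K 3 1 (g.1 x.2 y.2)) = _
    rw [map_mul, iterateFrobenius_def, map_pow]
    rfl
  have hm2 : (QR a g).map ι = G.map sq' ⊗ₖ G.map sq' := by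
    ext x y
    show ι (iterateFrobenius K 3 a (g.1 x.1 y.1) * iterateFrobenius K 3 a (g.1 x.2 y.2)) = _
    rw [map_mul, iterateFrobenius_def, iterateFrobenius_def, map_pow, map_pow]
    rfl
  have hk1 : (PL g).map ι * A1 = A1 * D1 := by
    rw [hm1, hA1, hD1, ← Matrix.mul_kronecker_mul, ← Matrix.mul_kronecker_mul, ← Matrix.map_mul,
      ← Matrix.map_mul, hPD]
  have hk2 : (QR a g).map ι * A2 = A2 * D2 := by
    rw [hm2, hA2, hD2, ← Matrix.mul_kronecker_mul, ← Matrix.mul_kronecker_mul, ← Matrix.map_mul,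
      ← Matrix.map_mul, hPD]
  have hdmap : ∀ f : Ω →+* Ω, (P.map f).det ≠ 0 := fun f => by
    rw [← RingHom.mapMatrix_apply, ← RingHom.map_det]
    exact (map_ne_zero f).mpr hP
  have hA1u : IsUnit A1.det := isUnit_iff_ne_zero.mpr (by
    rw [hA1, Matrix.det_kronecker]; exact mul_ne_zero (pow_ne_zero _ hP) (pow_ne_zero _ (hdmap c3)))
  have hA2u : IsUnit A2ᵀ.det := isUnit_iff_ne_zero.mpr (by
    rw [Matrix.det_transpose, hA2, Matrix.det_kronecker]
    exact mul_ne_zero (pow_ne_zero _ (hdmap sq')) (pow_ne_zero _ (hdmap sq')))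
  set Y := A1⁻¹ * X.map ι * A2ᵀ⁻¹ with hY
  have hXY : X.map ι = A1 * Y * A2ᵀ := by
    rw [hY, ← Matrix.mul_assoc, ← Matrix.mul_assoc, Matrix.mul_nonsing_inv _ hA1u, Matrix.one_mul,
      Matrix.nonsing_inv_mul_cancel_right _ _ hA2u]
  have hYne : Y ≠ 0 := fun e => hX (Matrix.map_injective ι.injective
    (by show X.map ι = (0 : Matrix (Fin 2 × Fin 2) (Fin 2 × Fin 2) K).map ι; rw [hXY, e, Matrix.mul_zero, Matrix.zero_mul, Matrix.map_zero _ (map_zero ι)]))
  have hfix : (PL g).map ι * X.map ι * ((QR a g).map ι)ᵀ = X.map ι := by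
    rw [← Matrix.transpose_map, ← Matrix.map_mul, ← Matrix.map_mul, ← act16_apply, h]
  have hDY : D1 * Y * D2ᵀ = Y := by
    rw [hXY, ← Matrix.mul_assoc, ← Matrix.mul_assoc, hk1, Matrix.mul_assoc (A1 * D1 * Y), ← Matrix.transpose_mul,
      hk2, Matrix.transpose_mul] at hfix
    rw [show A1 * D1 * Y * (D2ᵀ * A2ᵀ) = A1 * (D1 * Y * D2ᵀ) * A2ᵀ by simp only [Matrix.mul_assoc]] at hfix
    have := congrArg (fun M => A1⁻¹ * M * A2ᵀ⁻¹) hfix
    simpa [← Matrix.mul_assoc, Matrix.nonsing_inv_mul _ hA1u,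
      Matrix.mul_nonsing_inv_cancel_right _ _ hA2u] using this
  obtain ⟨x, y, hxy⟩ : ∃ x y, Y x y ≠ 0 := by
    by_contra hcon
    push Not at hcon
    exact hYne (Matrix.ext hcon)
  refine ⟨x.1, x.2, y.1, y.2, ?_⟩
  have hent := congrFun (congrFun hDY x) y
  rw [hD1, hD2, hD, Matrix.diagonal_map (map_zero c3), Matrix.diagonal_map (map_zero sq'),
    Matrix.diagonal_kronecker_diagonal, Matrix.diagonal_kronecker_diagonal, Matrix.diagonal_transpose,
    Matrix.mul_diagonal, Matrix.diagonal_mul] at hent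
  refine mul_right_cancel₀ hxy ?_
  rw [one_mul]
  conv_rhs => rw [← hent]
  simp only [c3, sq', iterateFrobenius_def, Function.comp_apply, pow_one]
  ring

end CfsgLib.SpecSp4
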