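import Cfsg.Agent.Lib.SpecSp4.Tensor

/-!
Groups isospectral to `PSp₄(3^a)` for even `a`.
-/

set_option autoImplicit false

namespace CfsgLib.SpecSp4

open Matrix
open scoped Kronecker

theorem nine_facts (m : ℕ) (hm : 1 ≤ m) : 9 ^ m % 8 = 1 ∧ (9 ^ m % 5 = 1 ∨ 9 ^ m % 5 = 4) := by
  induction m, hm using Nat.le_induction with
  | base => norm_num
  | succ n _ ih => rw [pow_succ]; omega

variable {K : Type} [Field K] [Fintype K] [hp : Fact (Nat.Prime 3)] [CharP K 3]

theorem exists_three (a : ℕ) (ha : 1 ≤ a) (hev : Even a) (hK : Fintype.card K = (3 ^ a) ^ 2) (N : ℕ) :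
    ∃ (H : Type) (_ : Group H) (_ : Fintype H), N < Fintype.card H ∧
      Set.range (orderOf : H → ℕ) = {n | ∃ e ∈ expo 3 (3 ^ a), n ∣ e} := by
  classical
  set q := 3 ^ a with hq
  obtain ⟨m, hm⟩ := hev
  have hq9 : q = 9 ^ m := by
    rw [hq, hm, ← two_mul, pow_mul]
    norm_num
  obtain ⟨h8, h5⟩ := nine_facts m (by omega)
  rw [← hq9] at h8 h5
  have hq4 : 4 ∣ q - 1 := Nat.dvd_of_mod_eq_zero (by omega)
  have hq3d : 3 ∣ q := hq ▸ dvd_pow_self 3 (by omega)
  have hq9' : 9 ≤ q := hq9 ▸ Nat.le_self_pow (by omega) 9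
  have hqodd : Odd q := by rw [Nat.odd_iff]; omega
  have hexpo : expo 3 q = [9, 3 * (q - 1), 3 * (q + 1), half 3 (q ^ 2 - 1), half 3 (q ^ 2 + 1)] := by
    simp [expo, half]
  let V := Matrix (Fin 2 × Fin 2) (Fin 2 × Fin 2) K
  haveI : Finite (V ≃ₗ[K] V) := Finite.of_injective (fun f => (f : V → V)) DFunLike.coe_injective
  let L := (act16 (K := K) a).range
  let el : SpecialLinearGroup (Fin 2) K →* L := (act16 a).rangeRestrict
  have hval : ∀ (g : SpecialLinearGroup (Fin 2) K) (v : V), el g • v = act16 a g v := fun g v => rfl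
  have hone : ∀ (g : SpecialLinearGroup (Fin 2) K) (n : ℕ), Sgn g.1 n → el g ^ n = 1 := fun g n h =>
    Subtype.ext (act16_eq_one_of_sgn a h)
  have hlow : ∀ g : SpecialLinearGroup (Fin 2) K, orderOf g ∣ 2 * orderOf (el g) := fun g => by
    rw [← orderOf_injective L.subtype L.subtype_injective]
    exact orderOf_dvd_two_mul16 a g
  rw [hexpo]
  refine exists_isospectral (L := L) (V := V) char_nsmul16 _ ?_ ?_ N
  · rintro ⟨_, g, rfl⟩
    show ∃ e ∈ _, Fine _ (el g) e
    have unip : ∀ ε : K, (ε = 1 ∨ ε = -1) → (g.1 - ε • 1) * (g.1 - ε • 1) = 0 →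
        ∃ e ∈ [9, 3 * (q - 1), 3 * (q + 1), half 3 (q ^ 2 - 1), half 3 (q ^ 2 + 1)], Fine V (el g) e :=
      fun ε hε h => ⟨3 * 3, by simp, fine_mul_char char_nsmul16 (hone g 3 (unip_pow 3 hε h))⟩
    have hτ : g.1.trace ^ (q ^ 2) = g.1.trace := by rw [← hK, FiniteField.pow_card]
    let Ω := AlgebraicClosure K
    rcases sl2_eigen 3 g Ω with ⟨ε, hε, h⟩ | ⟨μ, h0, h2, hsum, hpow⟩
    · exact unip ε hε h
    by_cases hfix : ∃ v : V, v ≠ 0 ∧ el g • v = v
    · obtain ⟨v, hv, hgv⟩ := hfix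
      haveI : CharP Ω 3 := charP_of_injective_algebraMap (algebraMap K Ω).injective 3
      have hμ : μ ^ (q ^ 2 - 1) = 1 ∨ μ ^ (q ^ 2 + 1) = 1 := by
        have hμQ : μ ^ q ^ 2 ≠ 0 := pow_ne_zero _ h0
        have e1 : (μ ^ q ^ 2)⁻¹ * μ ^ q ^ 2 = 1 := inv_mul_cancel₀ hμQ
        have e2 : μ⁻¹ * μ = 1 := inv_mul_cancel₀ h0
        have hfr : μ ^ q ^ 2 + (μ ^ q ^ 2)⁻¹ = μ + μ⁻¹ := by
          rw [hsum, ← hτ, map_pow, ← hsum, hq, ← pow_mul, add_pow_char_pow, inv_pow]
        have key : (μ ^ q ^ 2 - μ) * (μ ^ q ^ 2 * μ - 1) = 0 := by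
          linear_combination (μ ^ q ^ 2 * μ) * hfr - μ * e1 + μ ^ q ^ 2 * e2
        rcases mul_eq_zero.mp key with h | h
        · left
          have e : μ ^ (q ^ 2 - 1) * μ = 1 * μ := by
            rw [← pow_succ, Nat.sub_add_cancel (Nat.one_le_pow _ _ (by omega)), one_mul, sub_eq_zero.mp h]
          exact mul_right_cancel₀ h0 e
        · exact Or.inr (by rw [pow_succ, sub_eq_zero.mp h])
      obtain ⟨i, j, k, l, hw⟩ := weight_of_fixed a h0 h2 hsum hv ((hval g v).symm.trans hgv)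
      have use : ∀ n, 0 < n → μ ^ (2 * n) = 1 → el g ^ n = 1 := fun n hn h => by
        refine hone g n ?_
        rw [mul_comm, pow_mul] at h
        rcases sq_eq_one_iff.mp h with h' | h'
        · left
          rw [hpow n 1 hn (by rw [map_one, h']) (by rw [map_one, inv_pow, h', inv_one]), one_smul]
        · right
          rw [hpow n (-1) hn (by rw [map_neg, map_one, h'])
            (by rw [map_neg, map_one, inv_pow, h', inv_neg, inv_one]), neg_smul, one_smul]
      rcases weights h2 (q := q) (by omega) hq3d hq4 h5 hμ i j k l hw with h | h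
      · exact ⟨3 * (q - 1), by simp, fine_mul_char char_nsmul16 (use _ (by omega) h)⟩
      · exact ⟨3 * (q + 1), by simp, fine_mul_char char_nsmul16 (use _ (by omega) h)⟩
    · push Not at hfix
      have hfix' : ∀ v : V, el g • v = v → v = 0 := fun v h => by
        by_contra h'; exact hfix v h' h
      rcases sl2_cases 3 (q ^ 2) (a * 2) (by rw [hq, ← pow_mul]) (by omega) g hτ with h | h | ⟨ε, hε, h⟩
      · exact ⟨_, by simp, fine_of_fpf (hone g _ h) hfix'⟩
      · exact ⟨_, by simp, fine_of_fpf (hone g _ h) hfix'⟩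
      · exact unip ε hε h
  obtain ⟨l, hl⟩ := exists_gen 3 a hK
  rw [← hq] at hl
  have tori : ∀ (g : SpecialLinearGroup (Fin 2) K) (n : ℕ), orderOf g = n → Even n →
      Wit L V 3 (half 3 n) := fun g n hg hn =>
    Or.inl ⟨el g, (Nat.mul_dvd_mul_iff_left two_pos).mp (by
      rw [half_mem 3 (by norm_num) n hn, ← hg]; exact hlow g)⟩
  have fixw : ∀ (o : ℕ) (μ : Kˣ) (i j k r : Fin 2), orderOf μ = 2 * o → 0 < o → ¬ 3 ∣ o →
      ![(μ : K), (μ : K)⁻¹] i * ![(μ : K), (μ : K)⁻¹] j ^ 3 * ![(μ : K), (μ : K)⁻¹] k ^ q *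
        ![(μ : K), (μ : K)⁻¹] r ^ q = 1 → Wit L V 3 (3 * o) := by
    intro o μ i j k r hμ ho h3 hw
    set g := dg μ with hg
    have hord : orderOf g = 2 * o := by rw [hg, orderOf_injective _ dg_injective, hμ]
    have hd1 : orderOf (el g) ∣ o := by
      refine orderOf_dvd_of_pow_eq_one (hone g o ?_)
      have h1 : ((μ ^ o : Kˣ) : K) * (μ ^ o : Kˣ) = 1 := by
        rw [← Units.val_mul, ← pow_add, ← two_mul, ← hμ, pow_orderOf_eq_one, Units.val_one]
      show g.1 ^ o = 1 ∨ g.1 ^ o = -1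
      rw [hg, ← sl_pow, ← map_pow, dg_val]
      rcases mul_self_eq_one_iff.mp h1 with h | h
      · left; rw [Units.val_inv_eq_inv_val, h]; simp [Matrix.one_fin_two]
      · right; rw [Units.val_inv_eq_inv_val, h]; simp [Matrix.one_fin_two, inv_neg]
    have hd2 : o ∣ orderOf (el g) := (Nat.mul_dvd_mul_iff_left two_pos).mp (hord ▸ hlow g)
    refine Or.inr ⟨el g, (Matrix.single (i, j) (k, r) 1 : V),
      gsum_ne_of_fixed char_nsmul16 (fun h => by
        have h' : Matrix.single (i, j) (k, r) (1 : K) (i, j) (k, r) = 0 :=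
          congrArg (fun X : Matrix (Fin 2 × Fin 2) (Fin 2 × Fin 2) K => X (i, j) (k, r)) h
        rw [Matrix.single_apply, if_pos ⟨rfl, rfl⟩] at h'
        exact one_ne_zero h') ?_ (fun h => h3 (h.trans hd1)),
      mul_dvd_mul_left 3 hd2⟩
    rw [hval, act16_apply]
    have hD : g.1 = Matrix.diagonal ![(μ : K), (μ : K)⁻¹] := by
      rw [hg, dg_val, Units.val_inv_eq_inv_val, diag_val]
    show ((g.1.map (RingHom.id K)) ⊗ₖ (g.1.map (iterateFrobenius K 3 1))) * _ *
      ((g.1.map (sg 3 a)) ⊗ₖ (g.1.map (sg 3 a)))ᵀ = _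
    rw [hD, Matrix.diagonal_map (map_zero _), Matrix.diagonal_map (map_zero _), Matrix.diagonal_map (map_zero _),
      Matrix.diagonal_kronecker_diagonal, Matrix.diagonal_kronecker_diagonal, Matrix.diagonal_transpose]
    ext x y
    rw [Matrix.mul_diagonal, Matrix.diagonal_mul, Matrix.single_apply]
    split_ifs with h
    · obtain ⟨rfl, rfl⟩ := h
      simp only [Function.comp_apply, RingHom.id_apply, iterateFrobenius_def, pow_one, ← hq]
      linear_combination hw
    · simp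
  intro e he
  simp only [List.mem_cons, List.not_mem_nil, or_false] at he
  rcases he with rfl | rfl | rfl | rfl | rfl
  · let u : SpecialLinearGroup (Fin 2) K := ⟨!![1, 1; 0, 1], by simp [Matrix.det_fin_two_of]⟩
    have hu3 : u ^ 3 = 1 := by
      refine Subtype.ext ?_
      rw [sl_pow, pow_three]
      show !![1, 1; 0, 1] * (!![1, 1; 0, 1] * !![1, 1; 0, 1]) = (1 : Matrix (Fin 2) (Fin 2) K)
      have h3 : (3 : K) = 0 := by exact_mod_cast CharP.cast_eq_zero K 3
      ext i j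
      fin_cases i <;> fin_cases j <;> simp [Matrix.mul_apply, Fin.sum_univ_two, Matrix.vecMul, dotProduct] <;>
        linear_combination h3
    have hu : orderOf u = 3 := orderOf_eq_prime hu3
      (fun h => by simpa [u] using congrArg (fun g : SpecialLinearGroup (Fin 2) K => g.1 0 1) h)
    have helu : orderOf (el u) = 3 := by
      have hd : orderOf (el u) ∣ 3 := orderOf_dvd_of_pow_eq_one (by rw [← map_pow, hu3, map_one])
      rcases (Nat.dvd_prime Nat.prime_three).mp hd with h | h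
      · exfalso; have := hlow u; rw [h, hu] at this; norm_num at this
      · exact h
    refine Or.inr ⟨el u, (Matrix.single (1, 1) (1, 1) 1 : V), ?_, by rw [helu]⟩
    rw [helu, gsum, Finset.sum_range_succ, Finset.sum_range_succ, Finset.sum_range_one]
    intro hz
    have hz' := congrArg (fun X : Matrix (Fin 2 × Fin 2) (Fin 2 × Fin 2) K => X (0, 0) (1, 1)) hz
    have hent : ∀ n : ℕ, (el u ^ n • (Matrix.single (1, 1) (1, 1) 1 : V)) (0, 0) (1, 1) =
        (u ^ n).1 0 1 * (u ^ n).1 0 1 ^ 3 * ((u ^ n).1 1 1 ^ q * (u ^ n).1 1 1 ^ q) := fun n => by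
      rw [← map_pow, hval, act16_apply, Matrix.mul_apply, Finset.sum_eq_single ((1, 1) : Fin 2 × Fin 2)]
      · rw [Matrix.mul_apply, Finset.sum_eq_single ((1, 1) : Fin 2 × Fin 2)]
        · rw [Matrix.transpose_apply, kron2_apply, kron2_apply, Matrix.single_apply, if_pos ⟨rfl, rfl⟩]
          simp [iterateFrobenius_def, frobenius_def, hq]
        · intro b _ hb
          rw [Matrix.single_apply, if_neg (fun h => hb h.1.symm), mul_zero]
        · intro h; exact absurd (Finset.mem_univ _) h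
      · intro b _ hb
        rw [Matrix.mul_apply, Finset.sum_eq_zero (fun c _ => ?_), zero_mul]
        rw [Matrix.single_apply, if_neg (fun h => hb h.2.symm), mul_zero]
      · intro h; exact absurd (Finset.mem_univ _) h
    change (el u ^ 0 • (Matrix.single (1, 1) (1, 1) 1 : V)) (0, 0) (1, 1) +
      (el u ^ 1 • (Matrix.single (1, 1) (1, 1) 1 : V)) (0, 0) (1, 1) +
      (el u ^ 2 • (Matrix.single (1, 1) (1, 1) 1 : V)) (0, 0) (1, 1) = (0 : K) at hz'
    rw [hent, hent, hent] at hz'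
    have h2u : (u ^ 2).1 0 1 = 2 ∧ (u ^ 2).1 1 1 = 1 := by
      rw [sl_pow, sq]
      constructor <;> simp [u, Matrix.mul_apply, Fin.sum_univ_two, Matrix.vecMul, dotProduct, one_add_one_eq_two]
    rw [pow_zero, pow_one, h2u.1, h2u.2] at hz'
    simp [u] at hz'
    have h17 : ((17 : ℕ) : K) = 0 := by push_cast; linear_combination hz'
    rw [CharP.cast_eq_zero_iff K 3] at h17
    norm_num at h17
  · obtain ⟨c, hc⟩ : Even (q + 1) := hqodd.add_odd odd_one
    have hμ : orderOf (l ^ c) = 2 * (q - 1) := pow_order (by rw [hl, sq_fact, hc]; ring) (by omega)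
    refine fixw (q - 1) _ 1 0 1 1 hμ (by omega) (by omega) ?_
    have h1 : ((l ^ c : Kˣ) : K) ^ (2 * q) = ((l ^ c : Kˣ) : K) ^ 2 := by
      rw [show 2 * q = 2 + 2 * (q - 1) by omega, pow_add, ← hμ, ← Units.val_pow_eq_pow_val _ (orderOf _),
        pow_orderOf_eq_one, Units.val_one, mul_one]
    have hne : ((l ^ c : Kˣ) : K) ≠ 0 := Units.ne_zero _
    show ((l ^ c : Kˣ) : K)⁻¹ * ((l ^ c : Kˣ) : K) ^ 3 * ((l ^ c : Kˣ) : K)⁻¹ ^ q * ((l ^ c : Kˣ) : K)⁻¹ ^ q = 1
    rw [inv_pow]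
    field_simp
    linear_combination -h1
  · obtain ⟨c, hc⟩ : Even (q - 1) := Nat.Odd.sub_odd hqodd odd_one
    have hμ : orderOf (l ^ c) = 2 * (q + 1) := pow_order (by rw [hl, sq_fact, hc]; ring) (by omega)
    refine fixw (q + 1) _ 1 0 0 0 hμ (by omega) (by omega) ?_
    have h1 : ((l ^ c : Kˣ) : K) ^ (2 * (q + 1)) = 1 := by
      rw [← hμ, ← Units.val_pow_eq_pow_val _ (orderOf _), pow_orderOf_eq_one, Units.val_one]
    have hne : ((l ^ c : Kˣ) : K) ≠ 0 := Units.ne_zero _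
    show ((l ^ c : Kˣ) : K)⁻¹ * ((l ^ c : Kˣ) : K) ^ 3 * ((l ^ c : Kˣ) : K) ^ q * ((l ^ c : Kˣ) : K) ^ q = 1
    field_simp
    linear_combination h1
  · exact tori (dg l) _ (by rw [orderOf_injective _ dg_injective, hl]) (Nat.Odd.sub_odd hqodd.pow odd_one)
  · obtain ⟨g, hg⟩ := CfsgLib.NonSplitTorus.exists_orderOf_card_add_one (F := K) 3
    exact tori g _ (by rw [hg, hK]) (hqodd.pow.add_odd odd_one)

end CfsgLib.SpecSp4
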