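import Cfsg.Agent.Lib.SpecSp4.Ext
import Cfsg.Agent.Lib.SpecSp4.Roots
import Cfsg.Agent.Lib.NonSplitTorus

/-!
The twisted tensor square of the natural module of `SL₂(q²)`, with the transposition.
-/

set_option autoImplicit false

namespace CfsgLib.SpecSp4

open Matrix

variable {K : Type*} [Field K]

theorem sl_mul (g h : SpecialLinearGroup (Fin 2) K) : (g * h).1 = g.1 * h.1 := rfl

theorem sl_pow (g : SpecialLinearGroup (Fin 2) K) (n : ℕ) : (g ^ n).1 = g.1 ^ n :=
  Matrix.SpecialLinearGroup.coe_pow g n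

/-- Diagonal elements of `SL₂`. -/
def dg : Kˣ →* SpecialLinearGroup (Fin 2) K where
  toFun l := ⟨!![(l : K), 0; 0, ((l⁻¹ : Kˣ) : K)], by simp [Matrix.det_fin_two_of]⟩
  map_one' := Subtype.ext (by simp [Matrix.one_fin_two])
  map_mul' l m := Subtype.ext (by
    show _ = (!![(l : K), 0; 0, ((l⁻¹ : Kˣ) : K)] * !![(m : K), 0; 0, ((m⁻¹ : Kˣ) : K)])
    rw [Matrix.mul_fin_two]
    simp [mul_comm])

theorem dg_val (l : Kˣ) : (dg l).1 = !![(l : K), 0; 0, ((l⁻¹ : Kˣ) : K)] := rfl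

theorem dg_injective : Function.Injective (dg (K := K)) := fun l m h => Units.ext (by
  have := congrArg (fun g : SpecialLinearGroup (Fin 2) K => g.1 0 0) h
  simpa [dg_val] using this)

variable (p a : ℕ) [Fact p.Prime] [CharP K p]

/-- The field automorphism `x ↦ x^q`. -/
abbrev sg : K →+* K := iterateFrobenius K p a

/-- The conjugate matrix. -/
abbrev cj : SpecialLinearGroup (Fin 2) K →* SpecialLinearGroup (Fin 2) K := SpecialLinearGroup.map (sg p a)

theorem cj_val (g : SpecialLinearGroup (Fin 2) K) : (cj p a g).1 = g.1.map (sg p a) := rfl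

/-- The action on two by two matrices. -/
def act2 : SpecialLinearGroup (Fin 2) K →* (Matrix (Fin 2) (Fin 2) K ≃ₗ[K] Matrix (Fin 2) (Fin 2) K) where
  toFun g :=
    { toFun := fun X => g.1 * X * (cj p a g).1ᵀ
      invFun := fun X => (g⁻¹).1 * X * (cj p a g⁻¹).1ᵀ
      map_add' := fun X Y => by rw [Matrix.mul_add, Matrix.add_mul]
      map_smul' := fun c X => by
        rw [RingHom.id_apply, Matrix.mul_smul, Matrix.smul_mul]
      left_inv := fun X => by
        have e1 : (g⁻¹).1 * g.1 = 1 := congrArg Subtype.val (inv_mul_cancel g)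
        have e2 : (cj p a g⁻¹).1 * (cj p a g).1 = 1 := by
          rw [← sl_mul, ← map_mul, inv_mul_cancel, map_one]; rfl
        show (g⁻¹).1 * (g.1 * X * (cj p a g).1ᵀ) * (cj p a g⁻¹).1ᵀ = X
        rw [← Matrix.mul_assoc, ← Matrix.mul_assoc, e1, Matrix.one_mul, Matrix.mul_assoc,
          ← Matrix.transpose_mul, e2, Matrix.transpose_one, Matrix.mul_one]
      right_inv := fun X => by
        have e1 : g.1 * (g⁻¹).1 = 1 := congrArg Subtype.val (mul_inv_cancel g)
        have e2 : (cj p a g).1 * (cj p a g⁻¹).1 = 1 := by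
          rw [← sl_mul, ← map_mul, mul_inv_cancel, map_one]; rfl
        show g.1 * ((g⁻¹).1 * X * (cj p a g⁻¹).1ᵀ) * (cj p a g).1ᵀ = X
        rw [← Matrix.mul_assoc, ← Matrix.mul_assoc, e1, Matrix.one_mul, Matrix.mul_assoc,
          ← Matrix.transpose_mul, e2, Matrix.transpose_one, Matrix.mul_one] }
  map_one' := LinearEquiv.ext fun X => by
    show (1 : SpecialLinearGroup (Fin 2) K).1 * X * (cj p a 1).1ᵀ = X
    rw [map_one]
    simp
  map_mul' g h := LinearEquiv.ext fun X => by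
    show (g * h).1 * X * (cj p a (g * h)).1ᵀ = g.1 * (h.1 * X * (cj p a h).1ᵀ) * (cj p a g).1ᵀ
    rw [map_mul, sl_mul, sl_mul, Matrix.transpose_mul]
    simp only [Matrix.mul_assoc]

theorem act2_apply (g : SpecialLinearGroup (Fin 2) K) (X : Matrix (Fin 2) (Fin 2) K) :
    act2 p a g X = g.1 * X * (g.1.map (sg p a))ᵀ := rfl

theorem act2_eq_one_of_sgn {g : SpecialLinearGroup (Fin 2) K} {M : ℕ} (h : Sgn g.1 M) :
    act2 p a g ^ M = 1 := by
  rw [← map_pow]
  refine LinearEquiv.ext fun X => ?_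
  rw [act2_apply, sl_pow]
  rcases h with h | h <;> rw [h] <;> simp [Matrix.map_neg]

theorem act2_eq_one {g : SpecialLinearGroup (Fin 2) K} (h : act2 p a g = 1) : g.1 = 1 ∨ g.1 = -1 := by
  have hX : ∀ X, g.1 * X * (g.1.map (sg p a))ᵀ = X := fun X => by rw [← act2_apply, h]; rfl
  have h1 := hX 1
  rw [Matrix.mul_one] at h1
  have hcomm : ∀ X, X * g.1 = g.1 * X := fun X => by
    calc X * g.1 = g.1 * X * (g.1.map (sg p a))ᵀ * g.1 := by rw [hX]
      _ = g.1 * X * ((g.1.map (sg p a))ᵀ * g.1) := Matrix.mul_assoc _ _ _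
      _ = g.1 * X := by rw [mul_eq_one_comm.mp h1, Matrix.mul_one]
  obtain ⟨r, hr⟩ := Matrix.mem_range_scalar_of_commute_single (M := g.1) fun i j _ => hcomm _
  have hd : g.1.det = 1 := g.2
  rw [← hr, Matrix.scalar_apply, Matrix.det_diagonal, Fin.prod_univ_two] at hd
  rcases mul_self_eq_one_iff.mp hd with rfl | rfl
  · exact Or.inl (by rw [← hr, map_one])
  · exact Or.inr (by rw [← hr, map_neg, map_one])

theorem sq_eq_one_of_act2 {g : SpecialLinearGroup (Fin 2) K} (h : act2 p a g = 1) : g ^ 2 = 1 := by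
  refine Subtype.ext ?_
  rw [sl_pow, sq]
  rcases act2_eq_one p a h with h | h <;> rw [h] <;> simp

theorem orderOf_dvd_two_mul (g : SpecialLinearGroup (Fin 2) K) : orderOf g ∣ 2 * orderOf (act2 p a g) := by
  refine orderOf_dvd_of_pow_eq_one ?_
  rw [mul_comm, pow_mul]
  exact sq_eq_one_of_act2 p a (by rw [map_pow, pow_orderOf_eq_one])

/-- A fixed vector forces the trace into the small field. -/
theorem trace_of_fixed {g : SpecialLinearGroup (Fin 2) K} {X : Matrix (Fin 2) (Fin 2) K} (hX : X ≠ 0)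
    (h : act2 p a g X = X) : g.1.trace ^ p ^ a = g.1.trace := by
  set τ := g.1.trace with hτ
  set H := (cj p a g⁻¹).1ᵀ with hH
  have e2 : (cj p a g).1ᵀ * H = 1 := by
    rw [hH, ← Matrix.transpose_mul, ← sl_mul, ← map_mul, inv_mul_cancel, map_one]
    exact Matrix.transpose_one
  have hgX : g.1 * X = X * H := by
    conv_rhs => rw [← h]
    show g.1 * X = g.1 * X * (cj p a g).1ᵀ * H
    rw [Matrix.mul_assoc, e2, Matrix.mul_one]
  have hHH : H * H = (τ ^ p ^ a) • H - 1 := by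
    rw [hH, ← Matrix.transpose_mul, sq_eq, Matrix.transpose_sub, Matrix.transpose_smul, Matrix.transpose_one,
      cj_val, show ((g⁻¹).1.map (sg p a)).trace = sg p a (g⁻¹).1.trace from
        (AddMonoidHom.map_trace (sg p a).toAddMonoidHom _).symm, trace_inv_two, iterateFrobenius_def, hτ]
  have key : g.1 * g.1 * X = X * (H * H) := by
    rw [Matrix.mul_assoc, hgX, ← Matrix.mul_assoc, hgX, Matrix.mul_assoc]
  rw [sq_eq, hHH, Matrix.sub_mul, Matrix.mul_sub, Matrix.one_mul, Matrix.mul_one, Matrix.smul_mul,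
    Matrix.mul_smul, hgX, sub_left_inj, ← sub_eq_zero, ← sub_smul, smul_eq_zero] at key
  rcases key with h' | h'
  · exact (sub_eq_zero.mp h').symm
  · exfalso
    apply hX
    have e1 : (g⁻¹).1 * g.1 = 1 := congrArg Subtype.val (inv_mul_cancel g)
    calc X = (g⁻¹).1 * (g.1 * X) := by rw [← Matrix.mul_assoc, e1, Matrix.one_mul]
      _ = 0 := by rw [hgX, h', Matrix.mul_zero]

theorem char_nsmul (X : Matrix (Fin 2) (Fin 2) K) : p • X = 0 := by
  ext i j
  simp [CharP.cast_eq_zero]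

/-- The transposition. -/
abbrev tr2 : Matrix (Fin 2) (Fin 2) K ≃ₗ[K] Matrix (Fin 2) (Fin 2) K :=
  Matrix.transposeLinearEquiv (Fin 2) (Fin 2) K K

theorem tr2_mul_self : (tr2 (K := K)) * tr2 = 1 := LinearEquiv.ext fun X => Matrix.transpose_transpose X

theorem tr2_ne (h : SpecialLinearGroup (Fin 2) K) : tr2 ≠ act2 p a h := by
  intro e
  have hX : ∀ X, Xᵀ = h.1 * X * (h.1.map (sg p a))ᵀ := fun X => by
    rw [← act2_apply, ← e]; rfl
  have h1 := hX 1
  rw [Matrix.transpose_one, Matrix.mul_one] at h1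
  have hmul : ∀ X Y : Matrix (Fin 2) (Fin 2) K, (X * Y)ᵀ = Xᵀ * Yᵀ := fun X Y => by
    rw [hX (X * Y), hX X, hX Y]
    simp only [Matrix.mul_assoc]
    rw [← Matrix.mul_assoc ((h.1.map (sg p a))ᵀ) h.1, mul_eq_one_comm.mp h1.symm, Matrix.one_mul]
  have := congrArg (fun X : Matrix (Fin 2) (Fin 2) K => X 1 0) (hmul !![1, 0; 0, 0] !![0, 1; 0, 0])
  simp [Matrix.mul_apply, Fin.sum_univ_two] at this

variable [Fintype K]

theorem sg_sg (hK : Fintype.card K = (p ^ a) ^ 2) (x : K) : sg p a (sg p a x) = x := by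
  rw [iterateFrobenius_def, iterateFrobenius_def, ← pow_mul, ← sq, ← hK, FiniteField.pow_card]

theorem cj_cj (hK : Fintype.card K = (p ^ a) ^ 2) (g : SpecialLinearGroup (Fin 2) K) :
    cj p a (cj p a g) = g := Subtype.ext (by ext i j; exact sg_sg p a hK _)

theorem tr2_mul_act2 (hK : Fintype.card K = (p ^ a) ^ 2) (g : SpecialLinearGroup (Fin 2) K) :
    tr2 * act2 p a g = act2 p a (cj p a g) * tr2 := by
  refine LinearEquiv.ext fun X => ?_
  show (g.1 * X * (cj p a g).1ᵀ)ᵀ = (cj p a g).1 * Xᵀ * (cj p a (cj p a g)).1ᵀ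
  rw [cj_cj p a hK, Matrix.transpose_mul, Matrix.transpose_mul, Matrix.transpose_transpose, Matrix.mul_assoc]

/-- The group with the transposition. -/
def bigL (hK : Fintype.card K = (p ^ a) ^ 2) :
    Subgroup (Matrix (Fin 2) (Fin 2) K ≃ₗ[K] Matrix (Fin 2) (Fin 2) K) where
  carrier := {φ | ∃ g, φ = act2 p a g ∨ φ = act2 p a g * tr2}
  one_mem' := ⟨1, Or.inl (map_one _).symm⟩
  mul_mem' := by
    rintro _ _ ⟨g, rfl | rfl⟩ ⟨h, rfl | rfl⟩
    · exact ⟨g * h, Or.inl (map_mul _ _ _).symm⟩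
    · exact ⟨g * h, Or.inr (by rw [map_mul, mul_assoc])⟩
    · exact ⟨g * cj p a h, Or.inr (by rw [mul_assoc, tr2_mul_act2 p a hK, ← mul_assoc, map_mul])⟩
    · exact ⟨g * cj p a h, Or.inl (by
        rw [mul_assoc, ← mul_assoc tr2, tr2_mul_act2 p a hK, mul_assoc _ tr2 tr2, tr2_mul_self, mul_one, map_mul])⟩
  inv_mem' := by
    rintro _ ⟨g, rfl | rfl⟩
    · exact ⟨g⁻¹, Or.inl (map_inv _ _).symm⟩
    · exact ⟨cj p a g⁻¹, Or.inr (by
        rw [_root_.mul_inv_rev, ← map_inv, inv_eq_of_mul_eq_one_right tr2_mul_self, tr2_mul_act2 p a hK])⟩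

theorem act2_mem (hK : Fintype.card K = (p ^ a) ^ 2) (g : SpecialLinearGroup (Fin 2) K) :
    act2 p a g ∈ bigL p a hK := ⟨g, Or.inl rfl⟩

theorem act2_tr2_mem (hK : Fintype.card K = (p ^ a) ^ 2) (g : SpecialLinearGroup (Fin 2) K) :
    act2 p a g * tr2 ∈ bigL p a hK := ⟨g, Or.inr rfl⟩

theorem outer_sq (hK : Fintype.card K = (p ^ a) ^ 2) (g : SpecialLinearGroup (Fin 2) K) :
    (act2 p a g * tr2) * (act2 p a g * tr2) = act2 p a (g * cj p a g) := by
  rw [mul_assoc, ← mul_assoc tr2, tr2_mul_act2 p a hK, mul_assoc _ tr2 tr2, tr2_mul_self, mul_one, map_mul]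

theorem trace_mul_cj (hK : Fintype.card K = (p ^ a) ^ 2) (g : SpecialLinearGroup (Fin 2) K) :
    (g * cj p a g).1.trace ^ p ^ a = (g * cj p a g).1.trace := by
  rw [← iterateFrobenius_def p a]
  refine (AddMonoidHom.map_trace (sg p a).toAddMonoidHom _).trans ?_
  show ((g.1 * (cj p a g).1).map (sg p a)).trace = (g.1 * (cj p a g).1).trace
  rw [Matrix.map_mul, ← cj_val, ← cj_val, cj_cj p a hK, Matrix.trace_mul_comm]

theorem sum_cast_eq_zero (hp : 5 ≤ p) :
    ∑ i ∈ Finset.range p, (i : K) = 0 ∧ ∑ i ∈ Finset.range p, (i : K) ^ 2 = 0 := by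
  have h : ∀ n : ℕ, 2 * ∑ i ∈ Finset.range n, (i : K) = n * ((n : K) - 1) ∧
      6 * ∑ i ∈ Finset.range n, (i : K) ^ 2 = n * ((n : K) - 1) * (2 * n - 1) := fun n => by
    induction n with
    | zero => simp
    | succ n ih =>
      rw [Finset.sum_range_succ, Finset.sum_range_succ, Nat.cast_succ]
      exact ⟨by linear_combination ih.1, by linear_combination ih.2⟩
  obtain ⟨h1, h2⟩ := h p
  rw [CharP.cast_eq_zero K p, zero_mul] at h1
  rw [CharP.cast_eq_zero K p, zero_mul, zero_mul] at h2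
  have hne : ∀ n : ℕ, 0 < n → n < p → (n : K) ≠ 0 := fun n h0 hn h => by
    rw [CharP.cast_eq_zero_iff K p] at h
    exact absurd (Nat.le_of_dvd h0 h) (by omega)
  have h6 : (6 : K) ≠ 0 := by
    rw [show (6 : K) = ((2 : ℕ) : K) * ((3 : ℕ) : K) by norm_num]
    exact mul_ne_zero (hne 2 two_pos (by omega)) (hne 3 three_pos (by omega))
  exact ⟨(mul_eq_zero.mp h1).resolve_left (by simpa using hne 2 two_pos (by omega)),
    (mul_eq_zero.mp h2).resolve_left h6⟩

theorem unip_sum (hp : 5 ≤ p) {N : SpecialLinearGroup (Fin 2) K} {ε : K} (hε : ε = 1 ∨ ε = -1)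
    (h : (N.1 - ε • 1) * (N.1 - ε • 1) = 0) (X : Matrix (Fin 2) (Fin 2) K) :
    ∑ i ∈ Finset.range p, act2 p a (N ^ i) X = 0 := by
  have hε2 : ε * ε = 1 := by rcases hε with rfl | rfl <;> ring
  have hεσ : sg p a ε = ε := by rcases hε with rfl | rfl <;> simp
  set m := ε • N.1 - 1 with hm
  have hmm : m * m = 0 := by
    have e : m = ε • (N.1 - ε • 1) := by rw [hm, smul_sub, smul_smul, hε2, one_smul]
    rw [e, Matrix.smul_mul, Matrix.mul_smul, h, smul_zero, smul_zero]
  have hpow : ∀ i : ℕ, (N ^ i).1 = ε ^ i • (1 + (i : K) • m) := fun i => by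
    induction i with
    | zero => simp
    | succ i ih =>
      have hN : N.1 = ε • (1 + m) := by rw [hm, add_sub_cancel, smul_smul, hε2, one_smul]
      rw [pow_succ, sl_mul, ih, hN, Matrix.smul_mul, Matrix.mul_smul, smul_smul,
        Matrix.add_mul, Matrix.one_mul, Matrix.smul_mul, Matrix.mul_add, Matrix.mul_one, hmm, add_zero, pow_succ,
        Nat.cast_succ, add_smul, one_smul]
      congr 1
      abel
  have hterm : ∀ i : ℕ, act2 p a (N ^ i) X = X + (i : K) • (m * X + X * (m.map (sg p a))ᵀ) +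
      (i : K) ^ 2 • (m * X * (m.map (sg p a))ᵀ) := fun i => by
    rw [act2_apply, hpow]
    have e : (ε ^ i • (1 + (i : K) • m)).map (sg p a) = ε ^ i • (1 + (i : K) • m.map (sg p a)) := by
      ext r s
      by_cases hrs : r = s <;> simp [hrs, hεσ, map_natCast, mul_add]
    rw [e, Matrix.transpose_smul, Matrix.smul_mul, Matrix.smul_mul, Matrix.mul_smul, smul_smul, ← mul_pow, hε2,
      one_pow, one_smul, Matrix.transpose_add, Matrix.transpose_one, Matrix.transpose_smul, Matrix.add_mul,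
      Matrix.one_mul, Matrix.smul_mul, Matrix.mul_add, Matrix.mul_one, Matrix.add_mul, Matrix.smul_mul,
      Matrix.mul_smul, Matrix.mul_smul, smul_smul, ← sq, smul_add]
    abel
  obtain ⟨h1, h2⟩ := sum_cast_eq_zero (K := K) p hp
  rw [Finset.sum_congr rfl fun i _ => hterm i, Finset.sum_add_distrib, Finset.sum_add_distrib, ← Finset.sum_smul,
    ← Finset.sum_smul, h1, h2, zero_smul, zero_smul, Finset.sum_const, Finset.card_range, char_nsmul]
  simp

end CfsgLib.SpecSp4
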