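import Cfsg.Agent.Lib.SpecSp4.Twist

/-!
Groups isospectral to `PSp₄(q)` for `q` not divisible by three.
-/

set_option autoImplicit false

namespace CfsgLib.SpecSp4

open Matrix

variable {K : Type} [Field K] [Fintype K] (p a : ℕ) [hp : Fact p.Prime] [CharP K p]

section Common

omit [CharP K p] in
theorem exists_gen (hK : Fintype.card K = (p ^ a) ^ 2) : ∃ l : Kˣ, orderOf l = (p ^ a) ^ 2 - 1 := by
  classical
  obtain ⟨l, hl⟩ := IsCyclic.exists_ofOrder_eq_natCard (α := Kˣ)
  exact ⟨l, by rw [hl, Nat.card_units, Nat.card_eq_fintype_card, hK]⟩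

omit hp [CharP K p] in
theorem pow_order {l : Kˣ} {o c : ℕ} (hl : orderOf l = o * c) (hc : 0 < c) : orderOf (l ^ c) = o := by
  rw [orderOf_pow' l hc.ne', hl, Nat.gcd_eq_right (dvd_mul_left c o), Nat.mul_div_cancel _ hc]

theorem not_dvd_sub_add (hp0 : 0 < a) {c : ℕ} (hc : c = p ^ a - 1 ∨ c = p ^ a + 1) : ¬ p ∣ c := fun h => by
  have hd : p ∣ p ^ a := dvd_pow_self p hp0.ne'
  have h1 := Nat.one_le_pow a p hp.out.pos
  rcases hc with rfl | rfl
  · have := Nat.dvd_sub hd h
    rw [show p ^ a - (p ^ a - 1) = 1 by omega] at this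
    exact hp.out.one_lt.ne' (Nat.dvd_one.mp this)
  · exact hp.out.one_lt.ne' (Nat.dvd_one.mp ((Nat.dvd_add_right hd).mp h))

theorem sq_fact (n : ℕ) : n ^ 2 - 1 = (n + 1) * (n - 1) := by simpa using Nat.sq_sub_sq n 1

theorem half_mem (h : p ≠ 2) (n : ℕ) (hn : Even n) : 2 * half p n = n := by
  obtain ⟨r, rfl⟩ := hn
  rw [half, if_neg h]
  omega

end Common

theorem exists_even (ha : 1 ≤ a) (hp2 : p = 2) (hK : Fintype.card K = (p ^ a) ^ 2) (N : ℕ) :
    ∃ (H : Type) (_ : Group H) (_ : Fintype H), N < Fintype.card H ∧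
      Set.range (orderOf : H → ℕ) = {n | ∃ e ∈ expo p (p ^ a), n ∣ e} := by
  classical
  subst hp2
  set q := 2 ^ a with hq
  have hq2 : 2 ≤ q := by rw [hq]; exact Nat.le_self_pow (by omega) 2
  haveI : Finite (Matrix (Fin 2) (Fin 2) K ≃ₗ[K] Matrix (Fin 2) (Fin 2) K) :=
    Finite.of_injective (fun f => (f : Matrix (Fin 2) (Fin 2) K → Matrix (Fin 2) (Fin 2) K)) DFunLike.coe_injective
  let L := (act2 (K := K) 2 a).range
  let el : SpecialLinearGroup (Fin 2) K →* L := (act2 2 a).rangeRestrict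
  have hexpo : expo 2 q = [4, 2 * (q - 1), 2 * (q + 1), q ^ 2 - 1, q ^ 2 + 1] := by simp [expo]
  have hval : ∀ (g : SpecialLinearGroup (Fin 2) K) v, el g • v = act2 2 a g v := fun g v => rfl
  have hone : ∀ (g : SpecialLinearGroup (Fin 2) K) (n : ℕ), Sgn g.1 n → el g ^ n = 1 := fun g n h =>
    Subtype.ext (act2_eq_one_of_sgn 2 a h)
  have hinj : Function.Injective el := fun g h e => by
    have e' : act2 2 a (g⁻¹ * h) = 1 := by
      rw [map_mul, map_inv, inv_mul_eq_one]
      exact congrArg Subtype.val e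
    have : g⁻¹ * h = 1 := Subtype.ext (by
      rcases act2_eq_one 2 a e' with h' | h'
      · exact h'
      · rw [h']; ext i j; simp only [Matrix.neg_apply, CharTwo.neg_eq]; rfl)
    exact inv_mul_eq_one.mp this
  rw [hexpo]
  refine exists_isospectral (L := L) (V := Matrix (Fin 2) (Fin 2) K) (char_nsmul 2) _ ?_ ?_ N
  · rintro ⟨_, g, rfl⟩
    show ∃ e ∈ _, Fine _ (el g) e
    have unip : ∀ ε : K, (ε = 1 ∨ ε = -1) → (g.1 - ε • 1) * (g.1 - ε • 1) = 0 →
        ∃ e ∈ [4, 2 * (q - 1), 2 * (q + 1), q ^ 2 - 1, q ^ 2 + 1],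
          Fine (Matrix (Fin 2) (Fin 2) K) (el g) e := fun ε hε h =>
      ⟨2 * 2, by simp, fine_mul_char (char_nsmul 2) (hone g 2 (unip_pow 2 hε h))⟩
    by_cases hfix : ∃ v : Matrix (Fin 2) (Fin 2) K, v ≠ 0 ∧ el g • v = v
    · obtain ⟨v, hv, hgv⟩ := hfix
      rcases sl2_cases 2 q a hq ha g (trace_of_fixed 2 a hv (by rw [← hval]; exact hgv)) with h | h | ⟨ε, hε, h⟩
      · rw [half, if_pos rfl] at h
        exact ⟨2 * (q - 1), by simp, fine_mul_char (char_nsmul 2) (hone g _ h)⟩
      · rw [half, if_pos rfl] at h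
        exact ⟨2 * (q + 1), by simp, fine_mul_char (char_nsmul 2) (hone g _ h)⟩
      · exact unip ε hε h
    · push Not at hfix
      have hfix' : ∀ v : Matrix (Fin 2) (Fin 2) K, el g • v = v → v = 0 := fun v h => by
        by_contra h'; exact hfix v h' h
      rcases sl2_cases 2 (q ^ 2) (a * 2) (by rw [hq, ← pow_mul]) (by omega) g
          (by rw [← hK, FiniteField.pow_card]) with h | h | ⟨ε, hε, h⟩
      · rw [half, if_pos rfl] at h
        exact ⟨q ^ 2 - 1, by simp, fine_of_fpf (hone g _ h) hfix'⟩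
      · rw [half, if_pos rfl] at h
        exact ⟨q ^ 2 + 1, by simp, fine_of_fpf (hone g _ h) hfix'⟩
      · exact unip ε hε h
  obtain ⟨l, hl⟩ := exists_gen 2 a hK
  rw [← hq] at hl
  have hord : ∀ g : SpecialLinearGroup (Fin 2) K, orderOf (el g) = orderOf g := orderOf_injective el hinj
  have fixw : ∀ (o : ℕ) (μ : Kˣ) (v : Matrix (Fin 2) (Fin 2) K), orderOf μ = o → ¬ 2 ∣ o → v ≠ 0 →
      act2 2 a (dg μ) v = v → Wit L (Matrix (Fin 2) (Fin 2) K) 2 (2 * o) := fun o μ v hμ ho hv h =>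
    Or.inr ⟨el (dg μ), v, gsum_ne_of_fixed (char_nsmul 2) hv (by rw [hval]; exact h)
      (by rwa [hord, orderOf_injective _ dg_injective, hμ]),
      by rw [hord, orderOf_injective _ dg_injective, hμ]⟩
  intro e he
  simp only [List.mem_cons, List.not_mem_nil, or_false] at he
  rcases he with rfl | rfl | rfl | rfl | rfl
  · let u : SpecialLinearGroup (Fin 2) K := ⟨!![1, 1; 0, 1], by simp [Matrix.det_fin_two_of]⟩
    have hu : orderOf u = 2 := orderOf_eq_prime
      (Subtype.ext (by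
        rw [sl_pow, sq]
        show !![1, 1; 0, 1] * !![1, 1; 0, 1] = (1 : Matrix (Fin 2) (Fin 2) K)
        ext i j
        fin_cases i <;> fin_cases j <;> simp [Matrix.mul_apply, Fin.sum_univ_two, CharTwo.add_self_eq_zero]))
      (fun h => by simpa [u] using congrArg (fun g : SpecialLinearGroup (Fin 2) K => g.1 0 1) h)
    refine Or.inr ⟨el u, !![0, 0; 0, 1], ?_, by rw [hord, hu]⟩
    rw [hord, hu, gsum, Finset.sum_range_succ, Finset.sum_range_one, pow_zero, pow_one, one_smul, hval, act2_apply]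
    intro h
    have := congrArg (fun X : Matrix (Fin 2) (Fin 2) K => X 0 1) h
    simp [u, Matrix.mul_apply, Fin.sum_univ_two, Matrix.vecMul, dotProduct] at this
  · set μ := l ^ (q + 1) with hμdef
    have hμ : orderOf μ = q - 1 := pow_order (by rw [hl, sq_fact, mul_comm]) (by omega)
    refine fixw _ μ !![0, 1; 0, 0] hμ (not_dvd_sub_add 2 a ha (Or.inl rfl))
      (fun h => by simpa using congrArg (fun X : Matrix (Fin 2) (Fin 2) K => X 0 1) h) ?_
    have hfix : (μ : K) ^ q = μ := by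
      rw [show q = q - 1 + 1 by omega, pow_succ, ← hμ, ← Units.val_pow_eq_pow_val, pow_orderOf_eq_one,
        Units.val_one, one_mul]
    rw [act2_apply, dg_val]
    ext i j
    fin_cases i <;> fin_cases j <;>
      simp [Matrix.mul_apply, Fin.sum_univ_two, iterateFrobenius_def, ← hq, hfix, show q ≠ 0 by omega]
  · set μ := l ^ (q - 1) with hμdef
    have hμ : orderOf μ = q + 1 := pow_order (by rw [hl, sq_fact]) (by omega)
    refine fixw _ μ !![1, 0; 0, 0] hμ (not_dvd_sub_add 2 a ha (Or.inr rfl))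
      (fun h => by simpa using congrArg (fun X : Matrix (Fin 2) (Fin 2) K => X 0 0) h) ?_
    have hfix : (μ : K) * (μ : K) ^ q = 1 := by
      rw [← pow_succ', ← hμ, ← Units.val_pow_eq_pow_val, pow_orderOf_eq_one, Units.val_one]
    rw [act2_apply, dg_val]
    ext i j
    fin_cases i <;> fin_cases j <;>
      simp [Matrix.mul_apply, Fin.sum_univ_two, iterateFrobenius_def, ← hq, hfix, show q ≠ 0 by omega]
  · exact Or.inl ⟨el (dg l), by rw [hord, orderOf_injective _ dg_injective, hl]⟩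
  · obtain ⟨g, hg⟩ := CfsgLib.NonSplitTorus.exists_orderOf_card_add_one (F := K) 2
    exact Or.inl ⟨el g, by rw [hord, hg, hK]⟩

theorem exists_five (ha : 1 ≤ a) (hp5 : 5 ≤ p) (hK : Fintype.card K = (p ^ a) ^ 2) (N : ℕ) :
    ∃ (H : Type) (_ : Group H) (_ : Fintype H), N < Fintype.card H ∧
      Set.range (orderOf : H → ℕ) = {n | ∃ e ∈ expo p (p ^ a), n ∣ e} := by
  classical
  set q := p ^ a with hq
  have hp2 : p ≠ 2 := by omega
  have hp3 : p ≠ 3 := by omega
  have hqodd : Odd q := (hp.out.odd_of_ne_two hp2).pow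
  have hq5 : 5 ≤ q := le_trans hp5 (Nat.le_self_pow (by omega) p)
  have hexpo : expo p q = [p * (q - 1), p * (q + 1), half p (q ^ 2 - 1), half p (q ^ 2 + 1)] := by
    simp [expo, half, hp2, hp3]
  haveI : Finite (Matrix (Fin 2) (Fin 2) K ≃ₗ[K] Matrix (Fin 2) (Fin 2) K) :=
    Finite.of_injective (fun f => (f : Matrix (Fin 2) (Fin 2) K → Matrix (Fin 2) (Fin 2) K)) DFunLike.coe_injective
  let L := bigL (K := K) p a hK
  let el : SpecialLinearGroup (Fin 2) K →* L := (act2 p a).codRestrict L (act2_mem p a hK)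
  have hV := char_nsmul (K := K) p
  have hone : ∀ (g : SpecialLinearGroup (Fin 2) K) (n : ℕ), Sgn g.1 n → el g ^ n = 1 := fun g n h =>
    Subtype.ext (act2_eq_one_of_sgn p a h)
  obtain ⟨c1, hc1⟩ : Even (q - 1) := Nat.Odd.sub_odd hqodd odd_one
  obtain ⟨c2, hc2⟩ : Even (q + 1) := hqodd.add_odd odd_one
  have hm1 : half p (q - 1) = c1 := by rw [half, if_neg hp2]; omega
  have hm2 : half p (q + 1) = c2 := by rw [half, if_neg hp2]; omega
  have unip : ∀ (g : SpecialLinearGroup (Fin 2) K) (ε : K), (ε = 1 ∨ ε = -1) →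
      (g.1 - ε • 1) * (g.1 - ε • 1) = 0 → Fine (Matrix (Fin 2) (Fin 2) K) (el g) p := fun g ε hε h =>
    ⟨hone g p (unip_pow p hε h), fun v => by
      rw [gsum]
      refine Eq.trans (Finset.sum_congr rfl fun i _ => ?_) (unip_sum p a hp5 hε h v)
      rw [← map_pow]; rfl⟩
  rw [hexpo]
  refine exists_isospectral (L := L) (V := Matrix (Fin 2) (Fin 2) K) hV _ ?_ ?_ N
  · rintro ⟨_, g, rfl | rfl⟩
    · show ∃ e ∈ _, Fine _ (el g) e
      have unip' : (∃ ε : K, (ε = 1 ∨ ε = -1) ∧ (g.1 - ε • 1) * (g.1 - ε • 1) = 0) →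
          ∃ e ∈ [p * (q - 1), p * (q + 1), half p (q ^ 2 - 1), half p (q ^ 2 + 1)],
            Fine (Matrix (Fin 2) (Fin 2) K) (el g) e := fun ⟨ε, hε, h⟩ =>
        ⟨p * (q - 1), by simp, fine_of_dvd (unip g ε hε h) (dvd_mul_right _ _)⟩
      by_cases hfix : ∃ v : Matrix (Fin 2) (Fin 2) K, v ≠ 0 ∧ el g • v = v
      · obtain ⟨v, hv, hgv⟩ := hfix
        rcases sl2_cases p q a hq ha g (trace_of_fixed p a hv hgv) with h | h | h
        · refine ⟨p * (q - 1), by simp, fine_mul_char hV ?_⟩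
          rw [hc1, ← two_mul, mul_comm, pow_mul, ← hm1, hone g _ h, one_pow]
        · refine ⟨p * (q + 1), by simp, fine_mul_char hV ?_⟩
          rw [hc2, ← two_mul, mul_comm, pow_mul, ← hm2, hone g _ h, one_pow]
        · exact unip' h
      · push Not at hfix
        have hfix' : ∀ v : Matrix (Fin 2) (Fin 2) K, el g • v = v → v = 0 := fun v h => by
          by_contra h'; exact hfix v h' h
        rcases sl2_cases p (q ^ 2) (a * 2) (by rw [hq, ← pow_mul]) (by omega) g
            (by rw [← hK, FiniteField.pow_card]) with h | h | h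
        · exact ⟨_, by simp, fine_of_fpf (hone g _ h) hfix'⟩
        · exact ⟨_, by simp, fine_of_fpf (hone g _ h) hfix'⟩
        · exact unip' h
    · set x : L := ⟨act2 p a g * tr2, act2_tr2_mem p a hK g⟩ with hx
      set M := g * cj p a g with hM
      have hxx : x * x = el M := Subtype.ext (outer_sq p a hK g)
      have hsq : ∀ n : ℕ, x ^ (2 * n) = el M ^ n := fun n => by rw [pow_mul, sq, hxx]
      rcases sl2_cases p q a hq ha M (trace_mul_cj p a hK g) with h | h | ⟨ε, hε, h⟩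
      · refine ⟨p * (q - 1), by simp, fine_mul_char hV ?_⟩
        rw [hc1, ← two_mul, hsq, ← hm1, hone M _ h]
      · refine ⟨p * (q + 1), by simp, fine_mul_char hV ?_⟩
        rw [hc2, ← two_mul, hsq, ← hm2, hone M _ h]
      · obtain ⟨h1, h2⟩ := unip M ε hε h
        refine ⟨p * (q - 1), by simp, fine_of_dvd (n := 2 * p) ⟨by rw [hsq, h1], fun v => ?_⟩ ⟨c1, by rw [hc1]; ring⟩⟩
        have hsplit : ∀ n : ℕ, gsum x (2 * n) v = gsum (el M) n v + gsum (el M) n (x • v) := fun n => by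
          induction n with
          | zero => simp [gsum]
          | succ n ih =>
            rw [Nat.mul_succ, gsum, Finset.sum_range_succ, Finset.sum_range_succ, ← gsum, ih, gsum, gsum, gsum,
              gsum, Finset.sum_range_succ, Finset.sum_range_succ, pow_succ, hsq, mul_smul]
            abel
        rw [hsplit, h2, h2, add_zero]
  obtain ⟨l, hl⟩ := exists_gen p a hK
  rw [← hq] at hl
  have tori : ∀ (g : SpecialLinearGroup (Fin 2) K) (n : ℕ), orderOf g = n → Even n →
      Wit L (Matrix (Fin 2) (Fin 2) K) p (half p n) := fun g n hg hn => by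
    refine Or.inl ⟨el g, (Nat.mul_dvd_mul_iff_left two_pos).mp ?_⟩
    rw [half_mem p hp2 n hn, ← hg, ← orderOf_injective L.subtype L.subtype_injective]
    exact orderOf_dvd_two_mul p a g
  -- the outer witnesses
  have fixw : ∀ (o : ℕ) (g : SpecialLinearGroup (Fin 2) K) (ν : Kˣ) (v : Matrix (Fin 2) (Fin 2) K),
      g * cj p a g = dg ν → orderOf ν = o → Even o → ¬ p ∣ o → v ≠ 0 → (act2 p a g * tr2 : Matrix (Fin 2) (Fin 2) K ≃ₗ[K] Matrix (Fin 2) (Fin 2) K) v = v →
      Wit L (Matrix (Fin 2) (Fin 2) K) p (p * o) := by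
    intro o g ν v hN hν ho hpo hv hfix
    set x : L := ⟨act2 p a g * tr2, act2_tr2_mem p a hK g⟩ with hx
    have hsq : ∀ n : ℕ, L.subtype x ^ (2 * n) = act2 p a (dg ν ^ n) := fun n => by
      rw [pow_mul, sq, show L.subtype x * L.subtype x = _ from outer_sq p a hK g, hN, map_pow]
    obtain ⟨r, hr⟩ := ho
    have hopos : 0 < o := hν ▸ orderOf_pos ν
    have hdvd : orderOf x ∣ o := by
      refine orderOf_dvd_of_pow_eq_one (Subtype.ext ?_)
      rw [SubgroupClass.coe_pow, hr, ← two_mul]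
      refine (hsq r).trans ?_
      rw [map_pow]
      refine act2_eq_one_of_sgn p a ?_
      have hh : ((ν ^ r : Kˣ) : K) * (ν ^ r : Kˣ) = 1 := by
        rw [← Units.val_mul, ← pow_add, ← hr, ← hν, pow_orderOf_eq_one, Units.val_one]
      show (dg ν).1 ^ r = 1 ∨ (dg ν).1 ^ r = -1
      rw [← sl_pow, ← map_pow, dg_val]
      rcases mul_self_eq_one_iff.mp hh with h | h
      · left; rw [Units.val_inv_eq_inv_val, h]; simp [Matrix.one_fin_two]
      · right; rw [Units.val_inv_eq_inv_val, h]; simp [Matrix.one_fin_two, inv_neg]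
    have hdvd' : o ∣ orderOf x := by
      set k := orderOf x
      have hk : L.subtype x ^ k = 1 := by
        rw [← map_pow, pow_orderOf_eq_one, map_one]
      rcases Nat.even_or_odd' k with ⟨j, hj | hj⟩
      · rw [hj, hsq] at hk
        have h' := sq_eq_one_of_act2 p a hk
        rw [← pow_mul, ← map_pow, ← map_one (dg (K := K))] at h'
        rw [hj, mul_comm, ← hν]
        exact orderOf_dvd_of_pow_eq_one (dg_injective h')
      · rw [hj, pow_succ, hsq, hx] at hk
        change _ * (act2 p a g * tr2) = 1 at hk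
        rw [← mul_assoc, ← map_mul] at hk
        exact absurd (eq_inv_of_mul_eq_one_right hk) (by rw [← map_inv]; exact tr2_ne p a _)
    refine Or.inr ⟨x, v, gsum_ne_of_fixed hV hv hfix (fun h => hpo (h.trans hdvd)), mul_dvd_mul_left p hdvd'⟩
  intro e he
  simp only [List.mem_cons, List.not_mem_nil, or_false] at he
  rcases he with rfl | rfl | rfl | rfl
  · have hν : orderOf (l ^ (q + 1)) = q - 1 := pow_order (by rw [hl, sq_fact, mul_comm]) (by omega)
    set c : K := (l : K) ^ q * (l : K)⁻¹ with hc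
    refine fixw _ (dg l) (l ^ (q + 1)) !![0, 1; c, 0] ?_ hν ⟨c1, hc1⟩ (not_dvd_sub_add p a ha (Or.inl rfl))
      (fun h => by simpa using congrArg (fun X : Matrix (Fin 2) (Fin 2) K => X 0 1) h) ?_
    · refine Subtype.ext ?_
      rw [sl_mul, cj_val, dg_val, dg_val]
      ext i j
      fin_cases i <;> fin_cases j <;>
        simp [Matrix.mul_apply, Fin.sum_univ_two, iterateFrobenius_def, ← hq, pow_succ', inv_pow, mul_comm, show q ≠ 0 by omega]
    · show act2 p a (dg l) (!![0, 1; c, 0] : Matrix (Fin 2) (Fin 2) K)ᵀ = _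
      rw [act2_apply, dg_val]
      ext i j
      fin_cases i <;> fin_cases j <;>
        simp [Matrix.mul_apply, Fin.sum_univ_two, iterateFrobenius_def, ← hq, hc, inv_pow, Matrix.vecMul, dotProduct, show q ≠ 0 by omega] <;> field_simp
  · set ν := l ^ (q - 1) with hνdef
    have hν : orderOf ν = q + 1 := pow_order (by rw [hl, sq_fact]) (by omega)
    set b : K := ((l ^ (1 + c2) : Kˣ) : K)⁻¹ with hb
    have hb0 : b ≠ 0 := inv_ne_zero (Units.ne_zero _)
    have hminus : ((ν ^ c2 : Kˣ) : K) = -1 := by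
      have h1 : ((ν ^ c2 : Kˣ) : K) * (ν ^ c2 : Kˣ) = 1 := by
        rw [← Units.val_mul, ← pow_add, ← hc2, ← hν, pow_orderOf_eq_one, Units.val_one]
      rcases mul_self_eq_one_iff.mp h1 with h | h
      · exfalso
        have h2 : orderOf ν ∣ c2 := orderOf_dvd_of_pow_eq_one (Units.ext h)
        rw [hν] at h2
        have := Nat.le_of_dvd (by omega) h2
        omega
      · exact h
    have hkey : - (b * (b ^ q)⁻¹) = (ν : K) := by
      rw [hb, inv_pow, inv_inv]
      have : ((l ^ (1 + c2) : Kˣ) : K) ^ q = ((l ^ (1 + c2) : Kˣ) : K) * ((ν : K) * (ν ^ c2 : Kˣ)) := by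
        rw [← Units.val_pow_eq_pow_val, ← Units.val_mul, ← Units.val_mul]
        congr 1
        rw [hνdef, ← pow_mul, ← pow_mul, ← pow_add, ← pow_add]
        congr 1
        obtain ⟨q', hq'⟩ : ∃ q', q = q' + 1 := ⟨q - 1, by omega⟩
        rw [hq', Nat.add_sub_cancel]
        ring
      rw [this, hminus]
      field_simp
    let g : SpecialLinearGroup (Fin 2) K := ⟨!![0, b; -b⁻¹, 0], by simp [Matrix.det_fin_two_of, hb0]⟩
    set c : K := (b * b ^ q)⁻¹ with hc
    refine fixw _ g ν !![1, 0; 0, c] ?_ hν ⟨c2, hc2⟩ (not_dvd_sub_add p a ha (Or.inr rfl))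
      (fun h => by simpa using congrArg (fun X : Matrix (Fin 2) (Fin 2) K => X 0 0) h) ?_
    · refine Subtype.ext ?_
      rw [sl_mul, cj_val, dg_val, Units.val_inv_eq_inv_val, ← hkey]
      show !![0, b; -b⁻¹, 0] * (!![0, b; -b⁻¹, 0] : Matrix (Fin 2) (Fin 2) K).map (sg p a) = _
      ext i j
      fin_cases i <;> fin_cases j <;>
        simp [Matrix.mul_apply, Fin.sum_univ_two, iterateFrobenius_def, ← hq, inv_pow, inv_neg, hqodd.neg_pow, mul_comm, show q ≠ 0 by omega]
    · show act2 p a g (!![1, 0; 0, c] : Matrix (Fin 2) (Fin 2) K)ᵀ = _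
      rw [act2_apply]
      show !![0, b; -b⁻¹, 0] * _ * ((!![0, b; -b⁻¹, 0] : Matrix (Fin 2) (Fin 2) K).map (sg p a))ᵀ = _
      ext i j
      fin_cases i <;> fin_cases j <;>
        simp [Matrix.mul_apply, Fin.sum_univ_two, iterateFrobenius_def, ← hq, hc, hqodd.neg_pow, inv_pow, Matrix.vecMul, dotProduct, show q ≠ 0 by omega] <;>
        field_simp
  · exact tori (dg l) _ (by rw [orderOf_injective _ dg_injective, hl]) (Nat.Odd.sub_odd hqodd.pow odd_one)
  · obtain ⟨g, hg⟩ := CfsgLib.NonSplitTorus.exists_orderOf_card_add_one (F := K) p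
    exact tori g _ (by rw [hg, hK]) (hqodd.pow.add_odd odd_one)

end CfsgLib.SpecSp4
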